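import Mathlib.GroupTheory.PGroup
import Mathlib.Algebra.GroupWithZero.Action.Defs
import Mathlib.Algebra.BigOperators.GroupWithZero.Action
import Mathlib.Data.ZMod.Basic
import Mathlib.RingTheory.IntegralDomain
import Mathlib.Algebra.Ring.Subring.Basic

/-!
# Groups of odd order transitive on the pairs `{v, -v}` of an elementary abelian group

Abelian normal subgroups act semiregularly and are cyclic; averaging lemmas.
-/

set_option autoImplicit false
set_option linter.unusedSectionVars false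

namespace CfsgLib.LinearOdd

open Finset

variable {D E : Type*} [Group D] [AddCommGroup E] [DistribMulAction D E]

variable (D E) in
/-- A group of odd order acting faithfully and transitively up to sign on a nonzero elementary
abelian `q`-group. -/
structure Hyp (q : ℕ) : Prop where
  odd : Odd (Nat.card D)
  prime : q.Prime
  exp : ∀ e : E, q • e = 0
  exists_ne : ∃ e : E, e ≠ 0
  faith : ∀ d : D, (∀ e : E, d • e = e) → d = 1
  trans : ∀ a b : E, a ≠ 0 → b ≠ 0 → ∃ d : D, d • a = b ∨ d • a = -b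

/-- The vectors fixed by a subgroup. -/
def fixSub (K : Subgroup D) : AddSubgroup E where
  carrier := {e | ∀ a ∈ K, a • e = e}
  zero_mem' := fun a _ => smul_zero a
  add_mem' := fun hx hy a ha => by rw [smul_add, hx a ha, hy a ha]
  neg_mem' := fun hx a ha => by rw [smul_neg, hx a ha]

theorem mem_fixSub {K : Subgroup D} {e : E} : e ∈ fixSub K ↔ ∀ a ∈ K, a • e = e := Iff.rfl

/-- No element other than `1` fixes a nonzero vector. -/
def SemiReg (E : Type*) [AddCommGroup E] [DistribMulAction D E] (N : Subgroup D) : Prop :=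
  ∀ a ∈ N, a ≠ 1 → ∀ e : E, a • e = e → e = 0

theorem nsmul_cancel {q k : ℕ} (hq : ∀ e : E, q • e = 0) (hk : k.Coprime q) {e : E}
    (h : k • e = 0) : e = 0 := by
  refine AddMonoid.addOrderOf_eq_one_iff.mp ?_
  exact Nat.eq_one_of_dvd_coprimes hk (addOrderOf_dvd_of_nsmul_eq_zero h)
    (addOrderOf_dvd_of_nsmul_eq_zero (hq e))

/-- The sum over a nontrivial cyclic group without fixed points vanishes. -/
theorem sum_pow_eq_zero {z : D} {r : ℕ} (hz : z ^ r = 1) (hfix : ∀ e : E, z • e = e → e = 0)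
    (w : E) : ∑ i ∈ range r, z ^ i • w = 0 := by
  refine hfix _ ?_
  rw [smul_sum]
  have h1 : ∑ i ∈ range r, z • z ^ i • w = ∑ i ∈ range r, z ^ (i + 1) • w :=
    Finset.sum_congr rfl fun i _ => by rw [smul_smul, pow_succ']
  have h2 := Finset.sum_range_succ' (fun i => z ^ i • w) r
  have h3 := Finset.sum_range_succ (fun i => z ^ i • w) r
  rw [hz] at h3
  rw [h3, pow_zero] at h2
  rw [h1]
  exact (add_right_cancel h2).symm

/-- The vectors fixed by `a z ^ i`, `i < r`, add up to `r` times any given one. -/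
theorem sum_twisted {a z : D} {r : ℕ} (hr : r.Prime) (hz : z ^ r = 1) (haz : a * z = z * a)
    (hfix : ∀ i : ℕ, ¬ r ∣ i → ∀ e : E, z ^ i • e = e → e = 0) (v : E) :
    ∑ i ∈ range r, ∑ j ∈ range r, (a * z ^ i) ^ j • v = r • v := by
  have hc : ∀ i, Commute a (z ^ i) := fun i => (show Commute a z from haz).pow_right i
  have h0 : ∀ j ∈ range r, ∑ i ∈ range r, (a * z ^ i) ^ j • v =
      if j = 0 then r • v else 0 := by
    intro j hj
    split_ifs with h
    · subst h; simp
    · have hnd : ¬ r ∣ j := fun hd => h (Nat.eq_zero_of_dvd_of_lt hd (Finset.mem_range.mp hj))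
      rw [Finset.sum_congr rfl fun i _ => show (a * z ^ i) ^ j • v = a ^ j • ((z ^ j) ^ i • v) by
        rw [(hc i).mul_pow, mul_smul, ← pow_mul, ← pow_mul, mul_comm],
        ← smul_sum, sum_pow_eq_zero (by rw [← pow_mul, mul_comm, pow_mul, hz, one_pow]) (hfix j hnd),
        smul_zero]
  rw [Finset.sum_comm, Finset.sum_congr rfl h0, Finset.sum_ite_eq',
    if_pos (Finset.mem_range.mpr hr.pos)]

/-- The summand of `a` is fixed by `a`. -/
theorem twisted_mem {a : D} {r : ℕ} (ha : a ^ r = 1) (v : E) :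
    a • ∑ j ∈ range r, a ^ j • v = ∑ j ∈ range r, a ^ j • v := by
  rw [smul_sum]
  have h1 : ∑ j ∈ range r, a • a ^ j • v = ∑ j ∈ range r, a ^ (j + 1) • v :=
    Finset.sum_congr rfl fun j _ => by rw [smul_smul, pow_succ']
  have h2 := Finset.sum_range_succ' (fun j => a ^ j • v) r
  have h3 := Finset.sum_range_succ (fun j => a ^ j • v) r
  rw [ha] at h3
  rw [h3, pow_zero] at h2
  rw [h1]
  exact (add_right_cancel h2).symm

variable [Finite D] [Finite E] {q : ℕ}

theorem Hyp.coprime_of_dvd (h : Hyp D E q) (hdq : ¬ q ∣ Nat.card D) {n : ℕ}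
    (hn : n ∣ Nat.card D) : n.Coprime q :=
  ((h.prime.coprime_iff_not_dvd).mpr fun hq => hdq (hq.trans hn)).symm

/-- A normal subgroup with a nonzero fixed vector is trivial. -/
theorem Hyp.eq_bot_of_fix (h : Hyp D E q) {N : Subgroup D} (hN : N.Normal) {e : E} (he : e ≠ 0)
    (hfix : ∀ a ∈ N, a • e = e) : N = ⊥ := by
  refine (Subgroup.eq_bot_iff_forall _).mpr fun a ha => h.faith a fun b => ?_
  rcases eq_or_ne b 0 with rfl | hb
  · exact smul_zero a
  obtain ⟨d, hd⟩ := h.trans e b he hb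
  have key : a • d • e = d • e := by
    have h1 := hfix (d⁻¹ * a * d) (by simpa using hN.conj_mem a ha d⁻¹)
    rw [mul_assoc, mul_smul, inv_smul_eq_iff, mul_smul] at h1
    exact h1
  rcases hd with rfl | hd
  · exact key
  · rw [neg_eq_iff_eq_neg.mp hd.symm, smul_neg, key]

/-- Normal `q`-subgroups are trivial. -/
theorem Hyp.eq_bot_of_qGroup (h : Hyp D E q) {N : Subgroup D} (hN : N.Normal) (hp : IsPGroup q N) :
    N = ⊥ := by
  haveI := Fact.mk h.prime
  have hd : q ∣ Nat.card E := by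
    obtain ⟨e, he⟩ := h.exists_ne
    have h1 : addOrderOf e = q := addOrderOf_eq_prime (h.exp e) he
    exact h1 ▸ addOrderOf_dvd_natCard e
  obtain ⟨e, he, hne⟩ := hp.exists_fixed_point_of_prime_dvd_card_of_fixed_point E hd
    (a := 0) (fun a => smul_zero (a : D))
  exact h.eq_bot_of_fix hN (Ne.symm hne) fun a ha => he ⟨a, ha⟩

/-- Abelian normal subgroups act semiregularly. -/
theorem Hyp.semiReg_of_comm (h : Hyp D E q) {A : Subgroup D} (hA : A.Normal)
    (hcomm : ∀ a ∈ A, ∀ b ∈ A, a * b = b * a) : SemiReg E A := by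
  classical
  intro a₁ ha₁ ha1 v hv
  by_contra hv0
  let S : E → Set D := fun e => {a | a ∈ A ∧ a • e = e}
  have hconj : ∀ x y : E, x ≠ 0 → y ≠ 0 → (S x).ncard = (S y).ncard := by
    intro x y hx hy
    obtain ⟨d, hd⟩ := h.trans x y hx hy
    have himg : S y = (fun a => d * a * d⁻¹) '' S x := by
      ext b
      constructor
      · rintro ⟨hb, hby⟩
        refine ⟨d⁻¹ * b * d, ⟨by simpa using hA.conj_mem b hb d⁻¹, ?_⟩, by group⟩
        have hby' : b • d • x = d • x := by
          rcases hd with e | e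
          · rw [e]; exact hby
          · rw [e, smul_neg, hby]
        rw [mul_assoc, mul_smul, inv_smul_eq_iff, mul_smul]
        exact hby'
      · rintro ⟨a, ⟨ha, hax⟩, rfl⟩
        refine ⟨hA.conj_mem a ha d, ?_⟩
        have : (d * a * d⁻¹) • d • x = d • x := by
          rw [smul_smul, mul_assoc, inv_mul_cancel, mul_one, mul_smul, hax]
        rcases hd with e | e
        · rw [← e]; exact this
        · rw [neg_eq_iff_eq_neg.mp e.symm, smul_neg, this]
    rw [himg, Set.ncard_image_of_injective _ fun a b e => by simpa using e]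
  -- some vector is not fixed by all of `S v`
  obtain ⟨w, hw⟩ : ∃ w : E, ¬ ∀ a ∈ S v, a • w = w := by
    by_contra hall
    push Not at hall
    exact ha1 (h.faith a₁ fun e => hall e a₁ ⟨ha₁, hv⟩)
  have hw0 : w ≠ 0 := fun e => hw fun a _ => by rw [e, smul_zero]
  have hmove : ∀ b ∈ A, ∀ a ∈ S v, a • b • v = b • v := fun b hb a ha => by
    rw [smul_smul, hcomm a ha.1 b hb, mul_smul, ha.2]
  have hmove' : ∀ b ∈ A, ∀ a ∈ S w, a • b • w = b • w := fun b hb a ha => by
    rw [smul_smul, hcomm a ha.1 b hb, mul_smul, ha.2]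
  -- vectors fixed by both stabilisers
  have hboth : ∀ x : E, (∀ a ∈ S v, a • x = x) → (∀ a ∈ S w, a • x = x) → x = 0 := by
    intro x h1 h2
    by_contra hx
    have e1 : S v = S x := Set.eq_of_subset_of_ncard_le (fun a ha => ⟨ha.1, h1 a ha⟩)
      (hconj x v hx hv0).le (Set.toFinite _)
    have e2 : S w = S x := Set.eq_of_subset_of_ncard_le (fun a ha => ⟨ha.1, h2 a ha⟩)
      (hconj x w hx hw0).le (Set.toFinite _)
    exact hw fun a ha => by
      have : a ∈ S w := by rw [e2, ← e1]; exact ha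
      exact this.2
  have hu : v + w ≠ 0 := fun e => hw fun a ha => by
    rw [eq_neg_of_add_eq_zero_right e, smul_neg, ha.2]
  have hsub : S (v + w) ⊆ S v ∩ S w := by
    rintro b ⟨hb, hbu⟩
    rw [smul_add] at hbu
    have hz : b • v - v = 0 := by
      refine hboth _ (fun a ha => by rw [smul_sub, hmove b hb a ha, ha.2]) fun a ha => ?_
      have : b • v - v = w - b • w := by
        rw [sub_eq_sub_iff_add_eq_add, hbu, add_comm]
      rw [this, smul_sub, hmove' b hb a ha, ha.2]
    have hbv : b • v = v := sub_eq_zero.mp hz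
    exact ⟨⟨hb, hbv⟩, hb, by rw [hbv] at hbu; exact add_left_cancel hbu⟩
  have hlt : S v ∩ S w ⊂ S v := by
    refine ⟨Set.inter_subset_left, fun hle => hw fun a ha => (hle ha).2.2⟩
  have := Set.ncard_lt_ncard (lt_of_le_of_lt hsub hlt) (Set.toFinite _)
  rw [hconj (v + w) v hu hv0] at this
  exact lt_irrefl _ this

/-- A commutative group of automorphisms that acts semiregularly is cyclic. -/
theorem isCyclic_of_semiReg {A : Subgroup D} (hcomm : ∀ a ∈ A, ∀ b ∈ A, a * b = b * a)
    (hne : ∃ e : E, e ≠ 0) (hs : SemiReg E A) : IsCyclic A := by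
  classical
  haveI : Finite (AddSubgroup E) := Finite.of_injective _ SetLike.coe_injective
  obtain ⟨W, ⟨hW0, hWA⟩, hWmin⟩ := (Set.toFinite {W : AddSubgroup E |
      W ≠ ⊥ ∧ ∀ a ∈ A, ∀ w ∈ W, a • w ∈ W}).exists_minimal
    ⟨⊤, fun e => by
      obtain ⟨x, hx⟩ := hne
      exact hx ((AddSubgroup.eq_bot_iff_forall _).mp e x (AddSubgroup.mem_top x)),
      fun a _ w _ => AddSubgroup.mem_top _⟩
  let φ₀ : A → AddMonoid.End W := fun a =>
      ({ toFun := fun w => ⟨(a : D) • (w : E), hWA a a.2 w w.2⟩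
         map_zero' := Subtype.ext (smul_zero _)
         map_add' := fun u v => Subtype.ext (smul_add _ _ _) } : W →+ W)
  let φ : A →* AddMonoid.End W :=
    { toFun := φ₀
      map_one' := AddMonoidHom.ext fun w => Subtype.ext (one_smul D (w : E))
      map_mul' := fun a b => AddMonoidHom.ext fun w => Subtype.ext (mul_smul (a : D) (b : D) (w : E)) }
  set K : Subring (AddMonoid.End W) := Subring.closure (Set.range φ)
  have hcommK : ∀ x ∈ Set.range φ, ∀ y ∈ Set.range φ, x * y = y * x := by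
    rintro _ ⟨a, rfl⟩ _ ⟨b, rfl⟩
    rw [← map_mul, ← map_mul, show a * b = b * a from Subtype.ext (hcomm a a.2 b b.2)]
  letI : CommRing K := Subring.closureCommRingOfComm hcommK
  have hcent : ∀ c ∈ K, ∀ a : A, c * φ a = φ a * c := fun c hc a =>
    congrArg Subtype.val (mul_comm (⟨c, hc⟩ : K) ⟨φ a, Subring.subset_closure ⟨a, rfl⟩⟩)
  have hinj : ∀ c ∈ K, c ≠ 0 → Function.Injective c := by
    intro c hc hc0
    rw [injective_iff_map_eq_zero]
    intro w hw
    by_contra hw0
    let W' : AddSubgroup E := (AddMonoidHom.ker c).map W.subtype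
    have hW'le : W' ≤ W := by
      rintro _ ⟨u, -, rfl⟩; exact u.2
    have hW'ne : W' ≠ ⊥ := fun e => hw0 (Subtype.ext
      ((AddSubgroup.eq_bot_iff_forall _).mp e _ ⟨w, hw, rfl⟩))
    have hW'inv : ∀ a ∈ A, ∀ u ∈ W', a • u ∈ W' := by
      rintro a ha _ ⟨u, hu, rfl⟩
      refine ⟨φ ⟨a, ha⟩ u, ?_, rfl⟩
      show c (φ ⟨a, ha⟩ u) = 0
      rw [show c (φ ⟨a, ha⟩ u) = φ ⟨a, ha⟩ (c u) from
        DFunLike.congr_fun (hcent c hc ⟨a, ha⟩) u, show c u = 0 from hu, map_zero]
    refine hc0 (AddMonoidHom.ext fun u => ?_)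
    obtain ⟨u', hu', e⟩ := hWmin ⟨hW'ne, hW'inv⟩ hW'le u.2
    rw [show u = u' from Subtype.ext e.symm]
    exact hu'
  haveI : Nontrivial W := W.bot_or_nontrivial.resolve_left hW0
  haveI : Nontrivial K := ⟨⟨0, 1, fun e => by
    obtain ⟨w, hw⟩ := exists_ne (0 : W)
    exact hw (DFunLike.congr_fun (congrArg Subtype.val e) w).symm⟩⟩
  haveI : NoZeroDivisors K := ⟨fun {x y} hxy => by
    by_contra hne'
    push Not at hne'
    refine hne'.2 (Subtype.ext (AddMonoidHom.ext fun w => ?_))
    refine hinj x.1 x.2 (fun e => hne'.1 (Subtype.ext e)) ?_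
    exact (DFunLike.congr_fun (congrArg Subtype.val hxy) w).trans (map_zero _).symm⟩
  haveI : IsDomain K := NoZeroDivisors.to_isDomain K
  let ψ : A →* K :=
    { toFun := fun a => ⟨φ a, Subring.subset_closure ⟨a, rfl⟩⟩
      map_one' := Subtype.ext (map_one φ)
      map_mul' := fun a b => Subtype.ext (map_mul φ a b) }
  refine isCyclic_of_subgroup_isDomain ψ fun a b e => ?_
  by_contra hne'
  obtain ⟨w, hw⟩ := exists_ne (0 : W)
  have h1 : (b : D) • (w : E) = (a : D) • (w : E) :=
    (congrArg Subtype.val (DFunLike.congr_fun (congrArg Subtype.val e) w)).symm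
  have h2 : ((a : D)⁻¹ * b) • (w : E) = w := by rw [mul_smul, h1, inv_smul_smul]
  refine hw (Subtype.ext (hs _ (mul_mem (inv_mem a.2) b.2) (fun e' => hne' ?_) _ h2))
  exact Subtype.ext (inv_mul_eq_one.mp e')

theorem Hyp.isCyclic_of_comm (h : Hyp D E q) {A : Subgroup D} (hA : A.Normal)
    (hcomm : ∀ a ∈ A, ∀ b ∈ A, a * b = b * a) : IsCyclic A :=
  isCyclic_of_semiReg hcomm h.exists_ne (h.semiReg_of_comm hA hcomm)

end CfsgLib.LinearOdd
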