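import Cfsg.Agent.Lib.LinearOdd.Basic
import Mathlib.GroupTheory.Commutator.Basic
import Mathlib.Data.Finite.Card

/-!
# No normal extraspecial subgroup

Counting vectors fixed by noncentral elements against the size of a faithful module.
-/

set_option autoImplicit false
set_option linter.unusedSectionVars false

namespace CfsgLib.LinearOdd

open Finset
open scoped commutatorElement

variable {D E : Type*} [Group D] [AddCommGroup E] [DistribMulAction D E] [Finite D] [Finite E]

instance finite_subgroups : Finite (Subgroup D) := Finite.of_injective _ SetLike.coe_injective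

theorem mem_fixSub_zpowers {x : D} {e : E} : e ∈ fixSub (Subgroup.zpowers x) ↔ x • e = e := by
  refine ⟨fun h => h x (Subgroup.mem_zpowers x), fun h a ha => ?_⟩
  have h1 : Subgroup.zpowers x ≤ MulAction.stabilizer D e := Subgroup.zpowers_le.mpr h
  exact h1 ha

/-- Fixed spaces of commuting subgroups without common fixed vectors are independent. -/
theorem prod_card_fix_le {q : ℕ} (hq : ∀ e : E, q • e = 0) {ι : Type*} [Fintype ι]
    (B : ι → Subgroup D) (hB : ∀ i, (Nat.card (B i)).Coprime q)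
    (hcomm : ∀ i j, ∀ a ∈ B i, ∀ b ∈ B j, a * b = b * a)
    (h0 : ∀ i j, i ≠ j → ∀ e : E, e ∈ fixSub (B i) → e ∈ fixSub (B j) → e = 0) :
    ∏ i, Nat.card (fixSub (E := E) (B i)) ≤ Nat.card E := by
  classical
  rw [← Nat.card_pi]
  let f : (∀ i, fixSub (E := E) (B i)) →+ E :=
    { toFun := fun v => ∑ i, (v i : E)
      map_zero' := by simp
      map_add' := fun u v => by simp [Finset.sum_add_distrib] }
  refine Nat.card_le_card_of_injective f ((injective_iff_map_eq_zero f).mpr fun v hv => funext fun i => ?_)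
  haveI := Fintype.ofFinite (B i)
  let N : E → E := fun w => ∑ b : B i, (b : D) • w
  have hsum : ∀ (g : ι → E), N (∑ j, g j) = ∑ j, N (g j) := fun g => by
    simp only [N, smul_sum]; exact Finset.sum_comm
  have hfixB : ∀ w, N w ∈ fixSub (B i) := fun w a ha => by
    simp only [N, smul_sum, smul_smul]
    exact Fintype.sum_equiv (Equiv.mulLeft (⟨a, ha⟩ : B i)) _ _ fun b => rfl
  have hzero : ∀ j, j ≠ i → N (v j : E) = 0 := fun j hj => by
    refine h0 i j (Ne.symm hj) _ (hfixB _) fun a ha => ?_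
    simp only [N, smul_sum, smul_smul]
    exact Finset.sum_congr rfl fun b _ => by
      rw [← hcomm i j (b : D) b.2 a ha, mul_smul, (v j).2 a ha]
  have h1 : N (f v) = Nat.card (B i) • (v i : E) := by
    show N (∑ j, (v j : E)) = _
    rw [hsum, Finset.sum_eq_single i (fun j _ hj => hzero j hj) (by simp)]
    simp only [N]
    rw [Finset.sum_congr rfl fun (b : B i) _ => (v i).2 b b.2, Finset.sum_const, Finset.card_univ,
      Nat.card_eq_fintype_card]
  rw [hv, show N 0 = 0 by simp [N]] at h1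
  exact Subtype.ext (nsmul_cancel hq (hB i) h1.symm)

/-- Counting: `H ∩ A` has small index in terms of `H`. -/
theorem card_centralizing_le {r : ℕ} {z : D} (hz : orderOf z = r) {Ω A : Subgroup D} (hAΩ : A ≤ Ω)
    (hAc : ∀ a ∈ A, ∀ b ∈ A, a * b = b * a)
    (hcomm : ∀ x ∈ Ω, ∀ y ∈ Ω, ⁅x, y⁆ ∈ Subgroup.zpowers z)
    (hcent : ∀ x ∈ Ω, ∀ a ∈ Subgroup.zpowers z, x * a = a * x)
    (hexp : ∀ x ∈ Ω, x ^ r = 1) (hr : r.Prime) :
    Nat.card A * Nat.card A ≤
      Nat.card Ω * Nat.card ↥(A ⊓ Subgroup.centralizer (Ω : Set D)) := by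
  classical
  obtain ⟨H, ⟨hAH, hHΩ, hH⟩, hmax⟩ := (Set.toFinite {H : Subgroup D | A ≤ H ∧ H ≤ Ω ∧
      Nat.card A * Nat.card A ≤ Nat.card H * Nat.card ↥(A ⊓ Subgroup.centralizer (H : Set D))}).exists_maximal
    ⟨A, le_rfl, hAΩ, by
      rw [inf_eq_left.mpr fun a ha => Subgroup.mem_centralizer_iff.mpr fun b hb => hAc b hb a ha]⟩
  rcases eq_or_lt_of_le hHΩ with e | hlt
  · rwa [e] at hH
  exfalso
  obtain ⟨g, hgΩ, hgH⟩ := SetLike.exists_of_lt hlt
  set H' := H ⊔ Subgroup.zpowers g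
  have hH'Ω : H' ≤ Ω := sup_le hHΩ (Subgroup.zpowers_le.mpr hgΩ)
  have hlt' : H < H' := lt_of_le_of_ne le_sup_left fun e =>
    hgH (e ▸ Subgroup.mem_sup_right (Subgroup.mem_zpowers g))
  have hgr : r * Nat.card H ≤ Nat.card H' := by
    obtain ⟨k, hk⟩ := Subgroup.card_dvd_of_le hlt'.le
    have hk1 : k ≠ 1 := fun e => hlt'.ne (Subgroup.eq_of_le_of_card_ge hlt'.le
      (by rw [hk, e, mul_one]))
    have hHp : IsPGroup r H' := fun x => ⟨1, Subtype.ext (by
      rw [pow_one, SubgroupClass.coe_pow, hexp _ (hH'Ω x.2), OneMemClass.coe_one])⟩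
    haveI := Fact.mk hr
    obtain ⟨n, hn⟩ := IsPGroup.iff_card.mp hHp
    obtain ⟨i, -, rfl⟩ := (Nat.dvd_prime_pow hr).mp (hn ▸ Dvd.intro_left _ hk.symm : k ∣ r ^ n)
    rw [hk, mul_comm r]
    exact Nat.mul_le_mul_left _ (Nat.le_self_pow (fun e => hk1 (by rw [e, pow_zero])) r)
  set C := A ⊓ Subgroup.centralizer (H : Set D) with hC
  let ρ : C →* Subgroup.zpowers z :=
    { toFun := fun a => ⟨⁅(a : D), g⁆, hcomm a (hAΩ a.2.1) g hgΩ⟩
      map_one' := Subtype.ext (commutatorElement_one_left g)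
      map_mul' := fun a b => Subtype.ext (by
        show ⁅(a : D) * b, g⁆ = ⁅(a : D), g⁆ * ⁅(b : D), g⁆
        have h1 := hcent a (hAΩ a.2.1) _ (hcomm b (hAΩ b.2.1) g hgΩ)
        have h2 : ⁅(a : D) * b, g⁆ = (a * ⁅(b : D), g⁆) * (g * (a : D)⁻¹ * g⁻¹) := by
          rw [commutatorElement_def, commutatorElement_def]; group
        rw [h2, h1, mul_assoc, show (a : D) * (g * (a : D)⁻¹ * g⁻¹) = ⁅(a : D), g⁆ by
          rw [commutatorElement_def]; group]
        refine (hcent _ ?_ _ (hcomm b (hAΩ b.2.1) g hgΩ)).symm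
        rw [commutatorElement_def]
        exact Ω.mul_mem (Ω.mul_mem (Ω.mul_mem (hAΩ a.2.1) hgΩ) (Ω.inv_mem (hAΩ a.2.1)))
          (Ω.inv_mem hgΩ)) }
  have hker : ρ.ker.map C.subtype ≤ A ⊓ Subgroup.centralizer (H' : Set D) := by
    rintro _ ⟨a, ha, rfl⟩
    refine ⟨a.2.1, ?_⟩
    have hle : H' ≤ Subgroup.centralizer ({(a : D)} : Set D) := by
      refine sup_le (fun h hh => Subgroup.mem_centralizer_singleton_iff.mpr
        (Subgroup.mem_centralizer_iff.mp a.2.2 h hh)) (Subgroup.zpowers_le.mpr ?_)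
      exact Subgroup.mem_centralizer_singleton_iff.mpr
        (commutatorElement_eq_one_iff_mul_comm.mp (congrArg Subtype.val (MonoidHom.mem_ker.mp ha))).symm
    exact Subgroup.mem_centralizer_iff.mpr fun h hh =>
      Subgroup.mem_centralizer_singleton_iff.mp (hle hh)
  have hidx : Nat.card C ≤ r * Nat.card ↥(A ⊓ Subgroup.centralizer (H' : Set D)) := by
    rw [← ρ.ker.index_mul_card, Subgroup.index_ker]
    refine Nat.mul_le_mul ?_ ?_
    · rw [← hz, ← Nat.card_zpowers]
      exact Nat.card_le_card_of_injective _ Subtype.val_injective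
    · rw [← Subgroup.card_map_of_injective C.subtype_injective]
      exact Subgroup.card_le_of_le hker
  have hH' : Nat.card A * Nat.card A ≤
      Nat.card H' * Nat.card ↥(A ⊓ Subgroup.centralizer (H' : Set D)) :=
    hH.trans ((Nat.mul_le_mul_left _ hidx).trans (by
      rw [← mul_assoc, mul_comm (Nat.card H) r]
      exact Nat.mul_le_mul_right _ hgr))
  exact hlt'.not_ge (hmax ⟨hAH.trans hlt'.le, hH'Ω, hH'⟩ hlt'.le)

theorem arith {r n j G m : ℕ} (hr : 3 ≤ r) (hn : n = r * r ^ j) (hG : (r + 1) ^ r ^ j ≤ G)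
    (hm : m ≤ n * n * r) (h : (G ^ r - 1) * (r - 1) ≤ m * (G - 1)) : False := by
  have hG2 : 2 ≤ G := by
    have : r + 1 ≤ (r + 1) ^ r ^ j := Nat.le_self_pow (pow_ne_zero _ (by omega)) _
    omega
  have h1 : (G - 1) * G ^ (r - 1) ≤ G ^ r - 1 := by
    have hp : G * G ^ (r - 1) = G ^ r := by rw [← pow_succ', show r - 1 + 1 = r by omega]
    have hone : 1 ≤ G ^ (r - 1) := Nat.one_le_pow _ _ (by omega)
    rw [Nat.sub_one_mul, hp]
    omega
  have h2 : G ^ (r - 1) * (r - 1) ≤ n * n * r := by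
    refine Nat.le_of_mul_le_mul_left ?_ (show 0 < G - 1 by omega)
    calc (G - 1) * (G ^ (r - 1) * (r - 1)) = (G - 1) * G ^ (r - 1) * (r - 1) := by ring
      _ ≤ (G ^ r - 1) * (r - 1) := Nat.mul_le_mul_right _ h1
      _ ≤ n * n * r * (G - 1) := h.trans (Nat.mul_le_mul_right _ hm)
      _ = _ := mul_comm _ _
  have h3 : (r + 1) ^ (2 * (j + 1)) ≤ G ^ (r - 1) := by
    have hj : j + 1 ≤ r ^ j := Nat.lt_pow_self (by omega)
    calc (r + 1) ^ (2 * (j + 1)) ≤ (r + 1) ^ (r ^ j * 2) :=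
          Nat.pow_le_pow_right (by omega) (by omega)
      _ = ((r + 1) ^ r ^ j) ^ 2 := pow_mul _ _ _
      _ ≤ G ^ 2 := Nat.pow_le_pow_left hG _
      _ ≤ G ^ (r - 1) := Nat.pow_le_pow_right (by omega) (by omega)
  have h4 : n * n * r < (r + 1) ^ (2 * (j + 1)) * (r - 1) := by
    obtain ⟨s, rfl⟩ : ∃ s, r = s + 1 := ⟨r - 1, by omega⟩
    have hb : (s + 1) ^ 3 < (s + 2) ^ 2 * s := by nlinarith
    have hp : ((s + 1) ^ 2) ^ j ≤ ((s + 2) ^ 2) ^ j :=
      Nat.pow_le_pow_left (Nat.pow_le_pow_left (by omega) _) _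
    calc n * n * (s + 1) = (s + 1) ^ 3 * ((s + 1) ^ 2) ^ j := by
          rw [hn, ← pow_mul]; ring
      _ < (s + 2) ^ 2 * s * ((s + 1) ^ 2) ^ j := Nat.mul_lt_mul_of_pos_right hb (by positivity)
      _ ≤ (s + 2) ^ 2 * s * ((s + 2) ^ 2) ^ j := Nat.mul_le_mul_left _ hp
      _ = _ := by
        rw [Nat.add_sub_cancel, show 2 * (j + 1) = 2 + 2 * j by ring, pow_add, pow_mul,
          show s + 1 + 1 = s + 2 by ring]
        ring
  have h5 := Nat.mul_le_mul_right (r - 1) h3
  omega

variable {q : ℕ}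

/-- There is no normal subgroup of exponent `r` whose centre is a group of order `r` containing
the commutators. -/
theorem Hyp.no_extraspecial (h : Hyp D E q) {r : ℕ} [hr : Fact r.Prime] (hr2 : r ≠ 2) (hrq : r ≠ q)
    {Ω : Subgroup D} (hΩ : Ω.Normal) (hexp : ∀ x ∈ Ω, x ^ r = 1) {z : D} (hz : z ∈ Ω) (hz1 : z ≠ 1)
    (hcen : ∀ x ∈ Ω, (∀ y ∈ Ω, x * y = y * x) ↔ x ∈ Subgroup.zpowers z)
    (hcomm : ∀ x ∈ Ω, ∀ y ∈ Ω, ⁅x, y⁆ ∈ Subgroup.zpowers z)
    (hfix : SemiReg E (Subgroup.zpowers z)) (hnab : ∃ x ∈ Ω, x ∉ Subgroup.zpowers z) : False := by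
  classical
  have hr3 : 3 ≤ r := by have := hr.out.two_le; omega
  have hcop : r.Coprime q := (Nat.coprime_primes hr.out h.prime).mpr hrq
  have hordz : orderOf z = r := orderOf_eq_prime (hexp z hz) hz1
  have hZc : Nat.card (Subgroup.zpowers z) = r := by rw [Nat.card_zpowers, hordz]
  have hzΩ : Subgroup.zpowers z ≤ Ω := Subgroup.zpowers_le.mpr hz
  have hcent : ∀ x ∈ Ω, ∀ a ∈ Subgroup.zpowers z, x * a = a * x := fun x hx a ha =>
    ((hcen a (hzΩ ha)).mpr ha x hx).symm
  have hgen : ∀ c ∈ Subgroup.zpowers z, c ≠ 1 → z ∈ Subgroup.zpowers c := fun c hc hc1 => by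
    have : Subgroup.zpowers c = Subgroup.zpowers z :=
      Subgroup.eq_of_le_of_card_ge (Subgroup.zpowers_le.mpr hc)
        (by rw [hZc, Nat.card_zpowers, orderOf_eq_prime (hexp c (hzΩ hc)) hc1])
    rw [this]; exact Subgroup.mem_zpowers z
  have hcpow : ∀ c ∈ Subgroup.zpowers z, c ≠ 1 → ∀ i : ℕ, ¬ r ∣ i →
      ∀ e : E, c ^ i • e = e → e = 0 := fun c hc hc1 i hi e he => by
    refine hfix _ (pow_mem hc i) (fun e' => hi ?_) e he
    have := orderOf_dvd_of_pow_eq_one e'
    rwa [orderOf_eq_prime (hexp c (hzΩ hc)) hc1] at this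
  -- the fixed spaces of noncentral elements
  have hG : ∀ x ∈ Ω, x ∉ Subgroup.zpowers z →
      Nat.card (fixSub (E := E) (Subgroup.zpowers x)) ^ r = Nat.card E := by
    intro x hx hxz
    obtain ⟨g, hg, hgx⟩ : ∃ g ∈ Ω, g * x ≠ x * g := by
      by_contra hall
      push Not at hall
      exact hxz ((hcen x hx).mp fun y hy => (hall y hy).symm)
    set c := ⁅g, x⁆ with hc
    have hcZ : c ∈ Subgroup.zpowers z := hcomm g hg x hx
    have hc1 : c ≠ 1 := fun e => hgx (commutatorElement_eq_one_iff_mul_comm.mp e)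
    have hxc : x * c = c * x := hcent x hx c hcZ
    have hconj : ∀ i : ℕ, g ^ i * x * (g ^ i)⁻¹ = x * c ^ i := by
      intro i
      induction i with
      | zero => simp
      | succ i ih =>
        have hgc : g * c ^ i = c ^ i * g := hcent g hg _ (pow_mem hcZ i)
        rw [pow_succ', mul_inv_rev, show g * g ^ i * x * ((g ^ i)⁻¹ * g⁻¹) =
          g * (g ^ i * x * (g ^ i)⁻¹) * g⁻¹ by group, ih, ← mul_assoc, mul_assoc (g * x), ← mul_assoc,
          show g * x = c * (x * g) by rw [hc, commutatorElement_def]; group]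
        rw [pow_succ', ← mul_assoc x c, hxc]
        calc c * (x * g) * c ^ i * g⁻¹ = c * x * (g * c ^ i) * g⁻¹ := by group
          _ = c * x * c ^ i := by rw [hgc]; group
    have hcards : ∀ i : ℕ, Nat.card (fixSub (E := E) (Subgroup.zpowers (x * c ^ i))) =
        Nat.card (fixSub (E := E) (Subgroup.zpowers x)) := by
      intro i
      refine (Nat.card_congr (Equiv.subtypeEquiv (MulAction.toPerm (g ^ i : D)) fun e => ?_)).symm
      show e ∈ fixSub (Subgroup.zpowers x) ↔ g ^ i • e ∈ fixSub (Subgroup.zpowers (x * c ^ i))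
      rw [mem_fixSub_zpowers, mem_fixSub_zpowers, ← hconj i, mul_smul, mul_smul, inv_smul_smul]
      exact (smul_left_cancel_iff _).symm
    have hpow1 : ∀ i : ℕ, (x * c ^ i) ^ r = 1 := fun i =>
      hexp _ (Ω.mul_mem hx (Ω.pow_mem (hzΩ hcZ) i))
    refine le_antisymm ?_ ?_
    · have key := prod_card_fix_le h.exp (fun i : Fin r => Subgroup.zpowers (x * c ^ (i : ℕ)))
        (fun i => by
          rw [Nat.card_zpowers]
          exact Nat.Coprime.coprime_dvd_left (orderOf_dvd_of_pow_eq_one (hpow1 i)) hcop) ?_ ?_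
      · rwa [Finset.prod_congr rfl fun (i : Fin r) _ => hcards i, Finset.prod_const, Finset.card_univ,
          Fintype.card_fin] at key
      · rintro i j _ ⟨k, rfl⟩ _ ⟨l, rfl⟩
        have hab : Commute (x * c ^ (i : ℕ)) (x * c ^ (j : ℕ)) :=
          ((Commute.refl x).mul_right ((show Commute x c from hxc).pow_right _)).mul_left
            ((((show Commute x c from hxc).symm).pow_left _).mul_right ((Commute.refl c).pow_pow _ _))
        exact (hab.zpow_zpow k l).eq
      · intro i j hij e hi hj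
        rw [mem_fixSub_zpowers] at hi hj
        have key' : ∀ a b : Fin r, (a : ℕ) < b → (x * c ^ (a : ℕ)) • e = e →
            (x * c ^ (b : ℕ)) • e = e → e = 0 := by
          intro a b hab ha hb
          refine hcpow c hcZ hc1 (b - a) (fun hd => ?_) e ?_
          · have := Nat.le_of_dvd (by omega) hd
            have := b.isLt
            omega
          · have h1 : x * c ^ (b : ℕ) = c ^ ((b : ℕ) - a) * (x * c ^ (a : ℕ)) := by
              rw [← mul_assoc, ← ((show Commute x c from hxc).pow_right _).eq, mul_assoc, ← pow_add,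
                Nat.sub_add_cancel hab.le]
            rw [h1, mul_smul, ha] at hb
            exact hb
        rcases lt_or_gt_of_ne (Fin.val_injective.ne hij) with hlt | hlt
        · exact key' i j hlt hi hj
        · exact key' j i hlt hj hi
    · have hinj : Function.Injective fun e : E => r • e := fun a b e => by
        refine sub_eq_zero.mp (nsmul_cancel h.exp hcop ?_)
        rw [nsmul_sub]; exact sub_eq_zero.mpr e
      have hsurj := Finite.surjective_of_injective hinj
      rw [show Nat.card (fixSub (E := E) (Subgroup.zpowers x)) ^ r =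
        Nat.card (∀ i : Fin r, fixSub (E := E) (Subgroup.zpowers (x * c ^ (i : ℕ)))) by
          rw [Nat.card_pi, Finset.prod_congr rfl fun (i : Fin r) _ => hcards i, Finset.prod_const,
            Finset.card_univ, Fintype.card_fin]]
      refine Nat.card_le_card_of_surjective (fun v => ∑ i, (v i : E)) fun e => ?_
      obtain ⟨v, rfl⟩ := hsurj e
      refine ⟨fun i => ⟨∑ j ∈ range r, (x * c ^ (i : ℕ)) ^ j • v,
        mem_fixSub_zpowers.mpr (twisted_mem (hpow1 i) v)⟩, ?_⟩
      show ∑ i : Fin r, ∑ j ∈ range r, (x * c ^ (i : ℕ)) ^ j • v = r • v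
      rw [Fin.sum_univ_eq_sum_range fun i => ∑ j ∈ range r, (x * c ^ i) ^ j • v,
        sum_twisted hr.out (hexp c (hzΩ hcZ)) hxc (hcpow c hcZ hc1) v]
  obtain ⟨x₀, hx₀, hx₀z⟩ := hnab
  set G := Nat.card (fixSub (E := E) (Subgroup.zpowers x₀)) with hGdef
  have hGall : ∀ x ∈ Ω, x ∉ Subgroup.zpowers z →
      Nat.card (fixSub (E := E) (Subgroup.zpowers x)) = G := fun x hx hxz =>
    Nat.pow_left_injective hr.out.ne_zero ((hG x hx hxz).trans (hG x₀ hx₀ hx₀z).symm)
  -- every vector is fixed by a noncentral element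
  have hsome : ∀ v : E, v ≠ 0 → ∃ x ∈ Ω, x ∉ Subgroup.zpowers z ∧ x • v = v := by
    intro v hv
    obtain ⟨v₀, hv₀, hv₀ne⟩ : ∃ v₀ : E, x₀ • v₀ = v₀ ∧ v₀ ≠ 0 := by
      by_contra hno
      push Not at hno
      have h1 : G = 1 := by
        rw [hGdef, Nat.card_eq_one_iff_unique]
        exact ⟨⟨fun a b => Subtype.ext ((hno a (mem_fixSub_zpowers.mp a.2)).trans
          (hno b (mem_fixSub_zpowers.mp b.2)).symm)⟩, ⟨0⟩⟩
      have h2 := hG x₀ hx₀ hx₀z
      rw [← hGdef, h1, one_pow] at h2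
      obtain ⟨e, he⟩ := h.exists_ne
      haveI := (Nat.card_eq_one_iff_unique.mp h2.symm).1
      exact he (Subsingleton.elim _ _)
    obtain ⟨d, hd⟩ := h.trans v₀ v hv₀ne hv
    refine ⟨d * x₀ * d⁻¹, hΩ.conj_mem _ hx₀ d, fun hm => hx₀z ?_, ?_⟩
    · refine (hcen x₀ hx₀).mp fun y hy => ?_
      have h3 := (hcen _ (hΩ.conj_mem _ hx₀ d)).mpr hm (d * y * d⁻¹) (hΩ.conj_mem y hy d)
      have h4 : d * (x₀ * y) * d⁻¹ = d * (y * x₀) * d⁻¹ := by
        calc _ = d * x₀ * d⁻¹ * (d * y * d⁻¹) := by group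
          _ = d * y * d⁻¹ * (d * x₀ * d⁻¹) := h3
          _ = _ := by group
      exact mul_left_cancel (mul_right_cancel h4)
    · have h4 : (d * x₀ * d⁻¹) • d • v₀ = d • v₀ := by
        rw [smul_smul, mul_assoc, inv_mul_cancel, mul_one, mul_smul, hv₀]
      rcases hd with e | e
      · rw [← e]; exact h4
      · rw [neg_eq_iff_eq_neg.mp e.symm, smul_neg, h4]
  -- the count
  have hcount : (Nat.card E - 1) * (r - 1) ≤ Nat.card Ω * (G - 1) := by
    haveI := Fintype.ofFinite E
    haveI := Fintype.ofFinite Ω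
    have h1 : ∀ v ∈ (univ : Finset E).erase 0,
        r - 1 ≤ ((univ : Finset Ω).filter fun x : Ω => (x : D) ∉ Subgroup.zpowers z ∧ (x : D) • v = v).card := by
      intro v hv
      obtain ⟨x, hx, hxz, hxv⟩ := hsome v (Finset.mem_erase.mp hv).1
      refine le_trans (le_of_eq (Finset.card_fin (r - 1)).symm) (Finset.card_le_card_of_injOn
        (fun i : Fin (r - 1) => (⟨x ^ ((i : ℕ) + 1), Ω.pow_mem hx _⟩ : Ω)) (fun i _ => ?_) ?_)
      · refine Finset.mem_coe.mpr (Finset.mem_filter.mpr ⟨mem_univ _, fun hm => hxz ?_, ?_⟩)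
        · have hnd : ¬ r ∣ (i : ℕ) + 1 := fun hd => by
            have := Nat.le_of_dvd (by omega) hd
            have := i.isLt
            omega
          have hne : x ^ ((i : ℕ) + 1) ≠ 1 := fun e => hnd (by
            have := orderOf_dvd_of_pow_eq_one e
            rwa [orderOf_eq_prime (hexp x hx) (fun e' => hxz (e' ▸ one_mem _))] at this)
          have : Subgroup.zpowers (x ^ ((i : ℕ) + 1)) = Subgroup.zpowers x := by
            refine Subgroup.eq_of_le_of_card_ge (Subgroup.zpowers_le.mpr (pow_mem (Subgroup.mem_zpowers x) _)) ?_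
            rw [Nat.card_zpowers, Nat.card_zpowers, orderOf_eq_prime (hexp x hx) (fun e' => hxz (e' ▸ one_mem _)),
              orderOf_eq_prime (hexp _ (Ω.pow_mem hx _)) hne]
          exact Subgroup.zpowers_le.mpr hm (this ▸ Subgroup.mem_zpowers x)
        · exact (Subgroup.zpowers_le.mpr (show x ∈ MulAction.stabilizer D v from hxv)
            (pow_mem (Subgroup.mem_zpowers x) _) : _)
      · intro i _ j _ e
        have e' : x ^ ((i : ℕ) + 1) = x ^ ((j : ℕ) + 1) := congrArg Subtype.val e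
        have hox : orderOf x = r := orderOf_eq_prime (hexp x hx) fun e' => hxz (e' ▸ one_mem _)
        have := pow_injOn_Iio_orderOf (x := x) (by rw [hox]; show (i : ℕ) + 1 < r; omega)
          (by rw [hox]; show (j : ℕ) + 1 < r; omega) e'
        exact Fin.ext (by omega)
    have h2 : ∀ x : Ω, ((univ.erase (0 : E)).filter
        fun v => (x : D) ∉ Subgroup.zpowers z ∧ (x : D) • v = v).card ≤ G - 1 := by
      intro x
      by_cases hxz : (x : D) ∈ Subgroup.zpowers z
      · rw [Finset.filter_false_of_mem fun v _ => fun h' => h'.1 hxz]; simp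
      · rw [← hGall x x.2 hxz, Nat.card_eq_fintype_card, Fintype.card_subtype]
        rw [← Finset.card_erase_of_mem (a := (0 : E)) (by simp)]
        refine Finset.card_le_card fun v hv => ?_
        simp only [Finset.mem_filter, Finset.mem_erase] at hv ⊢
        exact ⟨hv.1.1, mem_univ _, mem_fixSub_zpowers.mpr hv.2.2⟩
    rw [Nat.card_eq_fintype_card, Nat.card_eq_fintype_card, ← Finset.card_univ (α := Ω),
      ← Finset.card_univ (α := E), ← Finset.card_erase_of_mem (mem_univ (0 : E))]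
    refine le_trans ?_ (le_trans (Finset.sum_le_card_nsmul univ _ _ fun x _ => h2 x) (le_of_eq (smul_eq_mul _ _)))
    rw [← smul_eq_mul]
    refine le_trans (Finset.card_nsmul_le_sum _ _ _ h1) (le_of_eq ?_)
    simp only [Finset.card_filter]
    exact Finset.sum_comm
  rw [← hG x₀ hx₀ hx₀z] at hcount
  -- a maximal abelian subgroup of `Ω`
  obtain ⟨A, ⟨hZA, hAΩ, hAc⟩, hAmax⟩ := (Set.toFinite {A : Subgroup D |
      Subgroup.zpowers z ≤ A ∧ A ≤ Ω ∧ ∀ a ∈ A, ∀ b ∈ A, a * b = b * a}).exists_maximal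
    ⟨Subgroup.zpowers z, le_rfl, hzΩ, fun a ha b hb => hcent a (hzΩ ha) b hb⟩
  have hCA : ∀ g ∈ Ω, (∀ a ∈ A, g * a = a * g) → g ∈ A := by
    intro g hg hga
    set K := Subgroup.closure ((A : Set D) ∪ {g})
    have hcK : ∀ a ∈ K, ∀ b ∈ K, a * b = b * a := by
      have hsc : ∀ x ∈ (A : Set D) ∪ {g}, ∀ y ∈ (A : Set D) ∪ {g}, x * y = y * x := by
        rintro x (hx | rfl) y (hy | rfl)
        exacts [hAc x hx y hy, (hga x hx).symm, hga y hy, rfl]
      letI := Subgroup.closureCommGroupOfComm hsc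
      exact fun a ha b hb => congrArg Subtype.val (mul_comm (⟨a, ha⟩ : K) ⟨b, hb⟩)
    have hAK : A ≤ K := fun a ha => Subgroup.subset_closure (Or.inl ha)
    exact hAmax ⟨hZA.trans hAK, (Subgroup.closure_le _).mpr (Set.union_subset hAΩ (by simpa using hg)), hcK⟩
      hAK (Subgroup.subset_closure (Or.inr rfl))
  have hAC : A ⊓ Subgroup.centralizer (Ω : Set D) ≤ Subgroup.zpowers z := fun a ha =>
    (hcen a (hAΩ ha.1)).mp fun y hy => (Subgroup.mem_centralizer_iff.mp ha.2 y hy).symm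
  have hAA : Nat.card A * Nat.card A ≤ Nat.card Ω * r :=
    (card_centralizing_le hordz hAΩ hAc hcomm hcent hexp hr.out).trans
      (Nat.mul_le_mul_left _ (hZc ▸ Subgroup.card_le_of_le hAC))
  set n := A.relIndex Ω with hn
  have hΩcard : Nat.card Ω = Nat.card A * n := by
    rw [← (A.subgroupOf Ω).index_mul_card, Nat.card_congr (Subgroup.subgroupOfEquivOfLe hAΩ).toEquiv,
      mul_comm]
    rfl
  have hm : Nat.card Ω ≤ n * n * r := by
    rw [hΩcard]
    have h1 : Nat.card A ≤ n * r := by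
      rw [hΩcard, mul_assoc] at hAA
      exact Nat.le_of_mul_le_mul_left hAA Nat.card_pos
    calc Nat.card A * n ≤ n * r * n := Nat.mul_le_mul_right _ h1
      _ = _ := by ring
  obtain ⟨j, hj⟩ : ∃ j, n = r * r ^ j := by
    have hΩp : IsPGroup r Ω := fun x => ⟨1, Subtype.ext (by
      rw [pow_one, SubgroupClass.coe_pow, hexp _ x.2, OneMemClass.coe_one])⟩
    obtain ⟨k, hk⟩ := hΩp.index (A.subgroupOf Ω)
    rcases k with _ | k
    · exfalso
      have hΩA : Ω ≤ A := Subgroup.relIndex_eq_one.mp (by rw [Subgroup.relIndex, hk, pow_zero])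
      exact hx₀z ((hcen x₀ hx₀).mp fun y hy => hAc x₀ (hΩA hx₀) y (hΩA hy))
    · exact ⟨k, by rw [hn, Subgroup.relIndex, hk, pow_succ']⟩
  -- a complement of `⟨z⟩` in `A` with a fixed vector
  obtain ⟨B, ⟨hBA, hzB, v, hv0, hvB⟩, hBmax⟩ := (Set.toFinite {B : Subgroup D |
      B ≤ A ∧ z ∉ B ∧ ∃ v : E, v ≠ 0 ∧ ∀ b ∈ B, b • v = v}).exists_maximal
    ⟨⊥, bot_le, fun hb => hz1 (Subgroup.mem_bot.mp hb), by
      obtain ⟨e, he⟩ := h.exists_ne
      exact ⟨e, he, fun b hb => by rw [Subgroup.mem_bot.mp hb, one_smul]⟩⟩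
  have hA_eq : ∀ a ∈ A, ∃ i : ℕ, a * z ^ i ∈ B := by
    intro a ha
    have hva : r • v ≠ 0 := fun e => hv0 (nsmul_cancel h.exp hcop e)
    have haz : a * z = z * a := hcent a (hAΩ ha) z (Subgroup.mem_zpowers z)
    have hs := sum_twisted hr.out (hexp z hz) haz (hcpow z (Subgroup.mem_zpowers z) hz1) v
    obtain ⟨i, -, hi⟩ := Finset.exists_ne_zero_of_sum_ne_zero (hs.symm ▸ hva)
    refine ⟨i, ?_⟩
    set w := ∑ j ∈ range r, (a * z ^ i) ^ j • v with hw
    have hazA : a * z ^ i ∈ A := mul_mem ha (pow_mem (hZA (Subgroup.mem_zpowers z)) i)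
    set B' := B ⊔ Subgroup.zpowers (a * z ^ i)
    have hfixB' : ∀ b ∈ B', b • w = w := by
      intro b hb
      have hle : B' ≤ MulAction.stabilizer D w := by
        refine sup_le (fun b hb => ?_) (Subgroup.zpowers_le.mpr
          (twisted_mem (hexp _ (hAΩ hazA)) v))
        show b • w = w
        rw [hw, smul_sum]
        exact Finset.sum_congr rfl fun j _ => by
          rw [smul_smul, hAc b (hBA hb) _ (pow_mem hazA j), mul_smul, hvB b hb]
      exact hle hb
    have hzB' : z ∉ B' := fun hz' => hi (hcpow z (Subgroup.mem_zpowers z) hz1 1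
      hr.out.not_dvd_one w (by rw [pow_one]; exact hfixB' z hz'))
    exact hBmax ⟨sup_le hBA (Subgroup.zpowers_le.mpr hazA), hzB', w, hi, hfixB'⟩ le_sup_left
      (Subgroup.mem_sup_right (Subgroup.mem_zpowers _))
  have hAn : ∀ g ∈ Ω, ∀ a ∈ A, g * a * g⁻¹ ∈ A := fun g hg a ha => by
    rw [show g * a * g⁻¹ = ⁅g, a⁆ * a by rw [commutatorElement_def]; group]
    exact mul_mem (hZA (hcomm g hg a (hAΩ ha))) ha
  let Q := Ω ⧸ A.subgroupOf Ω
  haveI : Fintype Q := Fintype.ofFinite Q
  let Bf : Q → Subgroup D := fun t => B.map (MulAut.conj ((t.out : Ω) : D)).toMonoidHom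
  have hBfA : ∀ t, Bf t ≤ A := fun t => by
    rintro _ ⟨b, hb, rfl⟩
    exact hAn _ (t.out).2 b (hBA hb)
  have hBcop : (Nat.card B).Coprime q := by
    obtain ⟨k, hk⟩ := IsPGroup.iff_card.mp (show IsPGroup r B from fun x => ⟨1, Subtype.ext (by
      rw [pow_one, SubgroupClass.coe_pow, hexp _ (hAΩ (hBA x.2)), OneMemClass.coe_one])⟩)
    rw [hk]
    exact Nat.Coprime.pow_left _ hcop
  have hFix : ∀ t : Q, Nat.card (fixSub (E := E) (Bf t)) = Nat.card (fixSub (E := E) B) := fun t => by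
    refine (Nat.card_congr (Equiv.subtypeEquiv (MulAction.toPerm ((t.out : Ω) : D)) fun e => ?_)).symm
    show e ∈ fixSub B ↔ ((t.out : Ω) : D) • e ∈ fixSub (Bf t)
    constructor
    · rintro he _ ⟨b, hb, rfl⟩
      show (((t.out : Ω) : D) * b * ((t.out : Ω) : D)⁻¹) • _ = _
      rw [mul_smul, mul_smul, inv_smul_smul, he b hb]
    · intro he b hb
      have h1 := he _ ⟨b, hb, rfl⟩
      have h2 : (((t.out : Ω) : D) * b * ((t.out : Ω) : D)⁻¹) • ((t.out : Ω) : D) • e =
          ((t.out : Ω) : D) • e := h1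
      rwa [mul_smul, mul_smul, inv_smul_smul, smul_left_cancel_iff] at h2
  have hindep := prod_card_fix_le h.exp Bf
    (fun t => by
      rw [Subgroup.card_map_of_injective (MulAut.conj ((t.out : Ω) : D)).injective]; exact hBcop)
    (fun s t a ha b hb => hAc a (hBfA s ha) b (hBfA t hb)) ?_
  · rw [Finset.prod_congr rfl fun t _ => hFix t, Finset.prod_const, Finset.card_univ,
      ← Nat.card_eq_fintype_card] at hindep
    have hF : r + 1 ≤ Nat.card (fixSub (E := E) B) := by
      haveI := Fintype.ofFinite (fixSub (E := E) B)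
      rw [Nat.card_eq_fintype_card, show r + 1 = Fintype.card (Option (Fin r)) by simp]
      refine Fintype.card_le_of_injective (fun o => o.elim 0 fun i => ⟨z ^ (i : ℕ) • v, fun b hb => by
        rw [smul_smul, hcent b (hAΩ (hBA hb)) _ (pow_mem (Subgroup.mem_zpowers z) _), mul_smul,
          hvB b hb]⟩) ?_
      rintro (_ | i) (_ | k) e
      · rfl
      · exfalso
        have e' : (0 : E) = z ^ (k : ℕ) • v := congrArg Subtype.val e
        exact hv0 (smul_eq_zero_iff_eq (z ^ (k : ℕ)) |>.mp e'.symm)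
      · exfalso
        have e' : z ^ (i : ℕ) • v = 0 := congrArg Subtype.val e
        exact hv0 (smul_eq_zero_iff_eq (z ^ (i : ℕ)) |>.mp e')
      · congr 1
        have e' : z ^ (i : ℕ) • v = z ^ (k : ℕ) • v := congrArg Subtype.val e
        by_contra hne
        have key : ∀ a b : Fin r, (a : ℕ) < b → z ^ (a : ℕ) • v = z ^ (b : ℕ) • v → False := by
          intro a b hab e''
          refine hv0 (hcpow z (Subgroup.mem_zpowers z) hz1 (b - a) (fun hd => ?_) v ?_)
          · have := Nat.le_of_dvd (by omega) hd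
            have := b.isLt
            omega
          · rw [← smul_left_cancel_iff (z ^ (a : ℕ)), smul_smul, ← pow_add,
              Nat.add_sub_cancel' hab.le, e'']
        rcases lt_or_gt_of_ne (Fin.val_injective.ne hne) with hlt | hlt
        · exact key i k hlt e'
        · exact key k i hlt e'.symm
    refine arith hr3 hj ?_ hm hcount
    refine (Nat.pow_le_pow_iff_left hr.out.ne_zero).mp ?_
    calc ((r + 1) ^ r ^ j) ^ r = (r + 1) ^ n := by rw [← pow_mul, hj, mul_comm]
      _ ≤ Nat.card (fixSub (E := E) B) ^ n := Nat.pow_le_pow_left hF _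
      _ ≤ Nat.card E := hindep
      _ = G ^ r := (hG x₀ hx₀ hx₀z).symm
  · intro s t hst e hs ht
    -- `Bf s ⊔ Bf t` contains `z`
    obtain ⟨b, hb, hbs⟩ : ∃ b ∈ Bf t, b ∉ Bf s := by
      by_contra hle
      push Not at hle
      have hge : Bf t = Bf s := Subgroup.eq_of_le_of_card_ge hle (by
        rw [Subgroup.card_map_of_injective (MulAut.conj ((s.out : Ω) : D)).injective,
          Subgroup.card_map_of_injective (MulAut.conj ((t.out : Ω) : D)).injective])
      refine hst ?_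
      rw [← QuotientGroup.out_eq' s, ← QuotientGroup.out_eq' t]
      refine QuotientGroup.eq.mpr ?_
      set g : Ω := (s.out)⁻¹ * t.out
      show (g : D) ∈ A
      refine hCA _ g.2 fun a ha => ?_
      obtain ⟨i, hi⟩ := hA_eq a ha
      have hb' : (g : D) * (a * z ^ i) * (g : D)⁻¹ ∈ B := by
        have h1 : ((t.out : Ω) : D) * (a * z ^ i) * ((t.out : Ω) : D)⁻¹ ∈ Bf s := hge ▸ ⟨_, hi, rfl⟩
        obtain ⟨b', hb', e'⟩ := h1
        have e'' : ((s.out : Ω) : D) * b' * ((s.out : Ω) : D)⁻¹ =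
            ((t.out : Ω) : D) * (a * z ^ i) * ((t.out : Ω) : D)⁻¹ := e'
        have e3 : (g : D) * (a * z ^ i) * (g : D)⁻¹ = b' := by
          simp only [g, Subgroup.coe_mul, Subgroup.coe_inv]
          calc _ = ((s.out : Ω) : D)⁻¹ * (((t.out : Ω) : D) * (a * z ^ i) * ((t.out : Ω) : D)⁻¹) *
                ((s.out : Ω) : D) := by group
            _ = b' := by rw [← e'']; group
        rw [e3]
        exact hb'
      have h2 : ⁅(g : D), a * z ^ i⁆ = 1 := by
        have h3 : ⁅(g : D), a * z ^ i⁆ ∈ B := by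
          rw [commutatorElement_def]; exact mul_mem hb' (inv_mem hi)
        by_contra hne
        exact hzB (Subgroup.zpowers_le.mpr h3
          (hgen _ (hcomm g g.2 _ (hAΩ (hBA hi))) hne))
      have h4 := commutatorElement_eq_one_iff_mul_comm.mp h2
      have h5 := hcent g g.2 _ (pow_mem (Subgroup.mem_zpowers z) i)
      rw [← mul_assoc, mul_assoc a, ← h5, ← mul_assoc] at h4
      exact mul_right_cancel h4
    -- write `b` as an element of `Bf s` times a power of `z`
    obtain ⟨i, hi⟩ : ∃ i : ℕ, b * z ^ i ∈ Bf s := by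
      have hb0 : ((s.out : Ω) : D)⁻¹ * b * ((s.out : Ω) : D) ∈ A := by
        simpa using hAn _ (Ω.inv_mem (s.out).2) b (hBfA t hb)
      obtain ⟨i, hi⟩ := hA_eq _ hb0
      refine ⟨i, ⟨_, hi, ?_⟩⟩
      show ((s.out : Ω) : D) * (((s.out : Ω) : D)⁻¹ * b * ((s.out : Ω) : D) * z ^ i) *
        ((s.out : Ω) : D)⁻¹ = b * z ^ i
      calc _ = b * (((s.out : Ω) : D) * z ^ i * ((s.out : Ω) : D)⁻¹) := by group
        _ = b * z ^ i := by
          rw [hcent _ (s.out).2 _ (pow_mem (Subgroup.mem_zpowers z) i), mul_inv_cancel_right]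
    have hnd : ¬ r ∣ i := fun ⟨k, hk⟩ => hbs (by rwa [hk, pow_mul, hexp z hz, one_pow, mul_one] at hi)
    refine hcpow z (Subgroup.mem_zpowers z) hz1 i hnd e ?_
    have := hs _ hi
    rwa [hcent b (hAΩ (hBfA t hb)) _ (pow_mem (Subgroup.mem_zpowers z) i), mul_smul, ht b hb] at this

end CfsgLib.LinearOdd
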