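import Cfsg.Agent.Lib.LinearOdd.Extraspecial
import Cfsg.Agent.Lib.Solvable.Fitting
import Cfsg.Agent.Lib.Cores.Fitting
import Cfsg.Agent.Lib.Transfer.CyclicMaximal
import Cfsg.Agent.S0205
import Mathlib.FieldTheory.Fixed
import Mathlib.FieldTheory.Finite.Basic

/-!
# Groups of odd order transitive up to sign are semilinear

The Fitting subgroup is cyclic and semiregular, the quotient by it is abelian, and the module is
a field on which the group acts semilinearly.
-/

set_option autoImplicit false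
set_option linter.unusedSectionVars false

namespace CfsgLib.LinearOdd

open scoped commutatorElement

variable {D E : Type*} [Group D] [AddCommGroup E] [DistribMulAction D E] [Finite D] [Finite E]
variable {q : ℕ}

/-- Normal `r`-subgroups are abelian. -/
theorem Hyp.comm_of_rGroup (h : Hyp D E q) {r : ℕ} [hr : Fact r.Prime] {R : Subgroup D}
    (hR : R.Normal) (hRp : IsPGroup r R) : ∀ a ∈ R, ∀ b ∈ R, a * b = b * a := by
  classical
  by_contra hnc
  have hne : R ≠ ⊥ := fun e => hnc fun a ha b hb => by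
    rw [e, Subgroup.mem_bot] at ha hb; rw [ha, hb]
  have hrd : r ∣ Nat.card D := by
    obtain ⟨k, hk⟩ := IsPGroup.iff_card.mp hRp
    rcases k with _ | k
    · rw [pow_zero] at hk
      exact absurd (Subgroup.card_eq_one.mp hk) hne
    · exact (hk ▸ dvd_pow_self r k.succ_ne_zero).trans R.card_subgroup_dvd_card
  have hr2 : r ≠ 2 := by
    rintro rfl
    exact absurd (h.odd.of_dvd_nat hrd) (by decide)
  have hrq : r ≠ q := fun e => hne (h.eq_bot_of_qGroup hR (e ▸ hRp))
  have hncy : ¬ IsCyclic (⊤ : Subgroup R) := fun hc => hnc fun a ha b hb => by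
    haveI := hc
    letI := IsCyclic.commGroup (α := (⊤ : Subgroup R))
    exact congrArg (fun x : (⊤ : Subgroup R) => ((x : R) : D))
      (mul_comm (⟨⟨a, ha⟩, trivial⟩ : (⊤ : Subgroup R)) ⟨⟨b, hb⟩, trivial⟩)
  obtain ⟨U, -, hUn, hU, hUc⟩ := CfsgLib.Transfer.exists_normal_elemAb_sq hRp hr2 (S := ⊤) hncy
  haveI := hUn
  -- `U` lies in the second centre
  have hUZ : ∀ u ∈ U, ∀ g : R, ⁅u, g⁆ ∈ Subgroup.center R := by
    intro u hu g
    have hmap : U.map (QuotientGroup.mk' (Subgroup.center R)) ≤ Subgroup.center (R ⧸ Subgroup.center R) := by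
      haveI : (U.map (QuotientGroup.mk' (Subgroup.center R))).Normal :=
        hUn.map _ (QuotientGroup.mk'_surjective _)
      have hU1 : U ≠ ⊥ := fun e => by
        rw [e, Subgroup.card_bot] at hUc
        exact (Nat.one_lt_pow two_ne_zero hr.out.one_lt).ne hUc
      have hlt : Nat.card ↥(U.map (QuotientGroup.mk' (Subgroup.center R))) ≠ r ^ 2 := by
        intro e
        refine CfsgLib.PGroup.inf_center_ne_bot hRp U hU1 ?_
        have hinj : Function.Injective ((QuotientGroup.mk' (Subgroup.center R)).subgroupMap U) :=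
          ((Nat.bijective_iff_surjective_and_card _).mpr
            ⟨MonoidHom.subgroupMap_surjective _ U, hUc.trans e.symm⟩).1
        refine (Subgroup.eq_bot_iff_forall _).mpr fun x hx => ?_
        have := @hinj ⟨x, hx.1⟩ 1 (Subtype.ext (by
          show QuotientGroup.mk' _ x = QuotientGroup.mk' _ 1
          rw [map_one]
          exact (QuotientGroup.eq_one_iff x).mpr hx.2))
        exact congrArg Subtype.val this
      have hdvd : Nat.card ↥(U.map (QuotientGroup.mk' (Subgroup.center R))) ∣ r ^ 2 :=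
        hUc ▸ U.card_map_dvd (QuotientGroup.mk' (Subgroup.center R))
      obtain ⟨i, hi, hic⟩ := (Nat.dvd_prime_pow hr.out).mp hdvd
      rcases (show i = 0 ∨ i = 1 ∨ i = 2 by omega) with rfl | rfl | rfl
      · rw [Subgroup.eq_bot_of_card_eq (U.map (QuotientGroup.mk' (Subgroup.center R))) (by rw [hic, pow_zero])]
        exact bot_le
      · exact CfsgLib.PGroup.le_center_of_card_eq (hRp.to_quotient _) _ (by rw [hic, pow_one])
      · exact absurd hic hlt
    have h1 := Subgroup.mem_center_iff.mp (hmap ⟨u, hu, rfl⟩) (QuotientGroup.mk' _ g)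
    rw [← QuotientGroup.eq_one_iff]
    show QuotientGroup.mk' (Subgroup.center R) ⁅u, g⁆ = 1
    rw [map_commutatorElement, commutatorElement_eq_one_iff_mul_comm]
    exact h1.symm
  -- the subgroup `Ω`
  let P : D → Prop := fun x => ∃ hx : x ∈ R, x ^ r = 1 ∧ ∀ g : R, ⁅(⟨x, hx⟩ : R), g⁆ ∈ Subgroup.center R
  have hmul : ∀ a b, P a → P b → P (a * b) := by
    rintro a b ⟨ha, hap, hac⟩ ⟨hb, hbp, hbc⟩
    refine ⟨mul_mem ha hb, ?_, fun g => ?_⟩
    · have hc : ⁅(⟨b, hb⟩ : R), (⟨a, ha⟩ : R)⁆ ∈ Subgroup.center R := hbc _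
      have h1 := CfsgLib.PGroup.mul_pow_of_comm_mem_center hc r
      have h2 : ⁅(⟨b, hb⟩ : R), (⟨a, ha⟩ : R)⁆ ^ r = 1 := by
        rw [← CfsgLib.PGroup.comm_pow_left hc, show (⟨b, hb⟩ : R) ^ r = 1 from Subtype.ext hbp,
          commutatorElement_one_left]
      obtain ⟨k, hk⟩ := hr.out.dvd_choose_self two_ne_zero (lt_of_le_of_ne hr.out.two_le hr2.symm)
      rw [hk, pow_mul, h2, one_pow, mul_one] at h1
      have h3 := congrArg Subtype.val h1
      simp only [SubgroupClass.coe_pow, Subgroup.coe_mul] at h3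
      rw [h3, hap, hbp, one_mul]
    · show ⁅(⟨a, ha⟩ : R) * ⟨b, hb⟩, g⁆ ∈ Subgroup.center R
      rw [CfsgLib.PGroup.comm_mul_left (hbc g)]
      exact mul_mem (hac g) (hbc g)
  let Ω : Subgroup D :=
    { carrier := {x | P x}
      one_mem' := ⟨one_mem R, one_pow r, fun g => by
        rw [show (⟨1, one_mem R⟩ : R) = 1 from rfl, commutatorElement_one_left]; exact one_mem _⟩
      mul_mem' := fun ha hb => hmul _ _ ha hb
      inv_mem' := fun {a} ha => by
        have hpos : ∀ n : ℕ, P (a ^ (n + 1)) := fun n => by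
          induction n with
          | zero => rw [pow_one]; exact ha
          | succ n ih => rw [pow_succ]; exact hmul _ _ ih ha
        have h1 : a⁻¹ = a ^ (r - 2 + 1) := by
          obtain ⟨-, hap, -⟩ := id (show P a from ha)
          refine inv_eq_of_mul_eq_one_right ?_
          rw [← pow_succ', show r - 2 + 1 + 1 = r by have := hr.out.two_le; omega, hap]
        show P a⁻¹
        rw [h1]; exact hpos _ }
  have hΩn : Ω.Normal := ⟨fun x hx d => by
    obtain ⟨hxR, hxp, hxc⟩ := (hx : P x)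
    refine ⟨hR.conj_mem x hxR d, by rw [conj_pow, hxp, mul_one, mul_inv_cancel], fun g => ?_⟩
    let g' : R := ⟨d⁻¹ * g * d, by simpa using hR.conj_mem g g.2 d⁻¹⟩
    refine Subgroup.mem_center_iff.mpr fun y => ?_
    let y' : R := ⟨d⁻¹ * y * d, by simpa using hR.conj_mem y y.2 d⁻¹⟩
    have hy := congrArg Subtype.val (Subgroup.mem_center_iff.mp (hxc g') y')
    simp only [commutatorElement_def, Subgroup.coe_mul, Subgroup.coe_inv, g', y'] at hy ⊢
    refine Subtype.ext ?_
    simp only [Subgroup.coe_mul, Subgroup.coe_inv]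
    refine mul_left_cancel (a := d⁻¹) (mul_right_cancel (b := d) ?_)
    calc _ = d⁻¹ * (y : D) * d * (x * (d⁻¹ * g * d) * x⁻¹ * (d⁻¹ * g * d)⁻¹) := by group
      _ = x * (d⁻¹ * g * d) * x⁻¹ * (d⁻¹ * g * d)⁻¹ * (d⁻¹ * (y : D) * d) := hy
      _ = _ := by group⟩
  have hΩR : Ω ≤ R := fun x hx => (show P x from hx).1
  have hUΩ : ∀ u ∈ U, ((u : R) : D) ∈ Ω := fun u hu =>
    ⟨u.2, congrArg Subtype.val (hU.2 u hu), fun g => hUZ u hu g⟩
  -- the centre of `Ω`
  set Zc := Ω ⊓ Subgroup.centralizer (Ω : Set D) with hZc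
  have hZn : Zc.Normal := ⟨fun x hx d => ⟨hΩn.conj_mem x hx.1 d,
    Subgroup.mem_centralizer_iff.mpr fun y hy => by
      have h1 := Subgroup.mem_centralizer_iff.mp hx.2 (d⁻¹ * y * d) (by simpa using hΩn.conj_mem y hy d⁻¹)
      calc y * (d * x * d⁻¹) = d * (d⁻¹ * y * d * x) * d⁻¹ := by group
        _ = _ := by rw [h1]; group⟩⟩
  have hZab : ∀ a ∈ Zc, ∀ b ∈ Zc, a * b = b * a := fun a ha b hb =>
    (Subgroup.mem_centralizer_iff.mp ha.2 b hb.1).symm
  obtain ⟨z₀, hz₀⟩ := (h.isCyclic_of_comm hZn hZab).exists_generator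
  set z : D := (z₀ : D)
  have hzZ : z ∈ Zc := z₀.2
  have hexp : ∀ x ∈ Ω, x ^ r = 1 := fun x hx => (show P x from hx).2.1
  have hzpow : ∀ a, a ∈ Zc ↔ a ∈ Subgroup.zpowers z := fun a => by
    refine ⟨fun ha => ?_, fun ha => Subgroup.zpowers_le.mpr hzZ ha⟩
    obtain ⟨k, hk⟩ := hz₀ ⟨a, ha⟩
    exact ⟨k, (Subgroup.coe_zpow Zc z₀ k).symm.trans (congrArg Subtype.val hk)⟩
  have hzlt : orderOf z < r ^ 2 := by
    refine lt_of_le_of_lt (Nat.le_of_dvd hr.out.pos (orderOf_dvd_of_pow_eq_one (hexp z hzZ.1))) ?_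
    exact lt_self_pow₀ hr.out.one_lt one_lt_two
  have hnab : ∃ x ∈ Ω, x ∉ Subgroup.zpowers z := by
    by_contra hall
    push Not at hall
    have hle : U.map R.subtype ≤ Subgroup.zpowers z := by
      rintro _ ⟨u, hu, rfl⟩
      exact hall _ (hUΩ u hu)
    have := Subgroup.card_le_of_le hle
    rw [Subgroup.card_map_of_injective R.subtype_injective, hUc, Nat.card_zpowers] at this
    omega
  have hcent : ∀ x ∈ Ω, ∀ y ∈ Ω, ⁅x, y⁆ ∈ Subgroup.zpowers z := fun x hx y hy => by
    refine (hzpow _).mp ⟨?_, Subgroup.mem_centralizer_iff.mpr fun w hw => ?_⟩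
    · rw [commutatorElement_def]
      exact Ω.mul_mem (Ω.mul_mem (Ω.mul_mem hx hy) (Ω.inv_mem hx)) (Ω.inv_mem hy)
    · have h1 := Subgroup.mem_center_iff.mp ((show P x from hx).2.2 ⟨y, hΩR hy⟩) ⟨w, hΩR hw⟩
      exact congrArg Subtype.val h1
  have hz1 : z ≠ 1 := by
    intro e
    obtain ⟨x, hx, hxz⟩ := hnab
    refine hxz ((hzpow x).mp ⟨hx, Subgroup.mem_centralizer_iff.mpr fun w hw => ?_⟩)
    have h1 := hcent w hw x hx
    rw [e, Subgroup.zpowers_one_eq_bot, Subgroup.mem_bot] at h1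
    exact commutatorElement_eq_one_iff_mul_comm.mp h1
  refine h.no_extraspecial hr2 hrq hΩn hexp hzZ.1 hz1 (fun x hx => ?_) hcent ?_ hnab
  · rw [← hzpow]
    exact ⟨fun hc => ⟨hx, Subgroup.mem_centralizer_iff.mpr fun w hw => (hc w hw).symm⟩,
      fun hc y hy => (Subgroup.mem_centralizer_iff.mp hc.2 y hy).symm⟩
  · exact fun a ha => h.semiReg_of_comm hZn hZab a ((hzpow a).mpr ha)

theorem Hyp.fitting_comm (h : Hyp D E q) :
    ∀ a ∈ Cfsg.fittingSubgroup D, ∀ b ∈ Cfsg.fittingSubgroup D, a * b = b * a := by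
  have hF := CfsgLib.Cores.fittingSubgroup_eq_iSup_pCore (G := D)
  have key : Cfsg.fittingSubgroup D ≤ Subgroup.centralizer (Cfsg.fittingSubgroup D : Set D) := by
    have h1 : ∀ s : (Nat.card D).primeFactors,
        Cfsg.fittingSubgroup D ≤ Subgroup.centralizer (Cfsg.pCore (s : ℕ) D : Set D) := by
      intro s
      rw [hF]
      refine iSup_le fun t a ha => Subgroup.mem_centralizer_iff.mpr fun b hb => ?_
      haveI : Fact (s : ℕ).Prime := ⟨Nat.prime_of_mem_primeFactors s.2⟩
      haveI : Fact (t : ℕ).Prime := ⟨Nat.prime_of_mem_primeFactors t.2⟩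
      by_cases hst : (s : ℕ) = t
      · rw [← hst] at ha
        exact h.comm_of_rGroup (R := Cfsg.pCore (s : ℕ) D) inferInstance
          (CfsgLib.Cores.isPGroup_pCore _) b hb a ha
      · exact CfsgLib.Cores.commute_pCore_of_ne hst hb ha
    conv_lhs => rw [hF]
    refine iSup_le fun s a ha => Subgroup.mem_centralizer_iff.mpr fun b hb => ?_
    exact (Subgroup.mem_centralizer_iff.mp (h1 s hb) a ha).symm
  exact fun a ha b hb => (Subgroup.mem_centralizer_iff.mp (key ha) b hb).symm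

theorem Hyp.centralizer_fitting (h : Hyp D E q) :
    Subgroup.centralizer (Cfsg.fittingSubgroup D : Set D) ≤ Cfsg.fittingSubgroup D := by
  haveI := Cfsg.Agent.S0205.result h.odd
  exact CfsgLib.Solvable.centralizer_fittingSubgroup_le

theorem Hyp.fitting_semiReg (h : Hyp D E q) : SemiReg E (Cfsg.fittingSubgroup D) :=
  h.semiReg_of_comm CfsgLib.Cores.fittingSubgroup_normal h.fitting_comm

theorem Hyp.fitting_isCyclic (h : Hyp D E q) : IsCyclic (Cfsg.fittingSubgroup D) :=
  h.isCyclic_of_comm CfsgLib.Cores.fittingSubgroup_normal h.fitting_comm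

theorem Hyp.commutator_le_fitting (h : Hyp D E q) : commutator D ≤ Cfsg.fittingSubgroup D := by
  haveI hn : (Cfsg.fittingSubgroup D).Normal := CfsgLib.Cores.fittingSubgroup_normal
  haveI := h.fitting_isCyclic
  obtain ⟨a, ha⟩ := h.fitting_isCyclic.exists_generator
  refine le_trans ?_ h.centralizer_fitting
  rw [commutator_def, Subgroup.commutator_le]
  intro x _ y _
  have hconj : ∀ d : D, ∃ k : ℤ, d * a * d⁻¹ = (a : D) ^ k := fun d => by
    obtain ⟨k, hk⟩ := ha ⟨_, hn.conj_mem (a : D) a.2 d⟩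
    exact ⟨k, (congrArg Subtype.val hk).symm.trans (Subgroup.coe_zpow _ a k)⟩
  have hcomm : ∀ b ∈ Cfsg.fittingSubgroup D, x * (y * b * y⁻¹) * x⁻¹ = y * (x * b * x⁻¹) * y⁻¹ := by
    intro b hb
    obtain ⟨k, hk⟩ := hconj x
    obtain ⟨l, hl⟩ := hconj y
    obtain ⟨i, hi⟩ := ha ⟨b, hb⟩
    have hb' : b = (a : D) ^ i := ((congrArg Subtype.val hi).symm).trans (Subgroup.coe_zpow _ a i)
    rw [hb', ← conj_zpow, hl, ← zpow_mul, ← conj_zpow, hk, ← conj_zpow (i := i), hk,
      ← zpow_mul (a : D) k i, ← conj_zpow, hl, ← zpow_mul, ← zpow_mul]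
    ring_nf
  refine Subgroup.mem_centralizer_iff.mpr fun b hb => ?_
  have h1 := hcomm (x⁻¹ * (y⁻¹ * b * y) * x) (by
    simpa using hn.conj_mem _ (hn.conj_mem b hb y⁻¹) x⁻¹)
  rw [commutatorElement_def]
  refine mul_right_cancel (b := (x * y * x⁻¹ * y⁻¹)⁻¹) ?_
  calc b * (x * y * x⁻¹ * y⁻¹) * (x * y * x⁻¹ * y⁻¹)⁻¹ = b := by group
    _ = y * (x * (x⁻¹ * (y⁻¹ * b * y) * x) * x⁻¹) * y⁻¹ := by group
    _ = x * (y * (x⁻¹ * (y⁻¹ * b * y) * x) * y⁻¹) * x⁻¹ := h1.symm
    _ = _ := by group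

theorem two_mul_lt {q o : ℕ} (hq : 2 ≤ q) (ho : 0 < o) : 2 * o < q ^ o + 1 := by
  have h1 : o - 1 < 2 ^ (o - 1) := Nat.lt_two_pow_self
  have h2 : 2 ^ o = 2 ^ (o - 1) * 2 := by rw [← pow_succ, show o - 1 + 1 = o by omega]
  have h3 : 2 ^ o ≤ q ^ o := Nat.pow_le_pow_left hq o
  omega

/-- The module is a field and the group acts semilinearly. -/
theorem Hyp.semilinear.{v} {D : Type*} {E : Type v} [Group D] [AddCommGroup E] [DistribMulAction D E]
    [Finite D] [Finite E] {q : ℕ} (h : Hyp D E q) :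
    ∃ (K : Type v) (_ : Field K) (_ : Fintype K) (e : E ≃+ K),
      ∀ d : D, ∃ (a : Kˣ) (φ : K ≃+* K), ∀ v : E, e (d • v) = (a : K) * φ (e v) := by
  classical
  haveI := Fact.mk h.prime
  set F := Cfsg.fittingSubgroup D with hF
  haveI hFn : F.Normal := CfsgLib.Cores.fittingSubgroup_normal
  let ρ : D → AddMonoid.End E := fun d => DistribSMul.toAddMonoidHom E d
  have hρ : ∀ a b : D, ρ (a * b) = ρ a * ρ b := fun a b => AddMonoidHom.ext fun w => mul_smul a b w
  set K : Subring (AddMonoid.End E) := Subring.closure (ρ '' F) with hK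
  have hgenK : ∀ a ∈ F, ρ a ∈ K := fun a ha => Subring.subset_closure ⟨a, ha, rfl⟩
  have hcommK : ∀ x ∈ ρ '' (F : Set D), ∀ y ∈ ρ '' (F : Set D), x * y = y * x := by
    rintro _ ⟨a, ha, rfl⟩ _ ⟨b, hb, rfl⟩
    rw [← hρ, ← hρ, h.fitting_comm a ha b hb]
  letI : CommRing K := Subring.closureCommRingOfComm hcommK
  have hcent : ∀ c ∈ K, ∀ a ∈ F, ∀ w : E, c (a • w) = a • c w := fun c hc a ha w =>
    DFunLike.congr_fun (congrArg Subtype.val (mul_comm (⟨c, hc⟩ : K) ⟨ρ a, hgenK a ha⟩)) w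
  -- minimal invariant subgroups
  let Inv : AddSubgroup E → Prop := fun W => ∀ a ∈ F, ∀ w ∈ W, a • w ∈ W
  have hKinv : ∀ c ∈ K, ∀ W, Inv W → ∀ w ∈ W, c w ∈ W := by
    intro c hc W hW
    refine Subring.closure_induction (p := fun c _ => ∀ w ∈ W, c w ∈ W) ?_ (fun w _ => W.zero_mem)
      (fun w hw => hw) (fun c d _ _ hc hd w hw => W.add_mem (hc w hw) (hd w hw))
      (fun c _ hc w hw => W.neg_mem (hc w hw)) (fun c d _ _ hc hd w hw => hc _ (hd w hw)) hc
    rintro _ ⟨a, ha, rfl⟩ w hw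
    exact hW a ha w hw
  obtain ⟨e₀, he₀⟩ := h.exists_ne
  haveI : Finite (AddSubgroup E) := Finite.of_injective _ SetLike.coe_injective
  obtain ⟨W, ⟨⟨w₀, hw₀, hw₀ne⟩, hWinv⟩, hWmin⟩ := (Set.toFinite {W : AddSubgroup E |
      (∃ w ∈ W, w ≠ 0) ∧ Inv W}).exists_minimal
    ⟨⊤, ⟨e₀, AddSubgroup.mem_top _, he₀⟩, fun a _ w _ => AddSubgroup.mem_top _⟩
  let T : D → AddSubgroup E := fun d => W.map (DistribSMul.toAddMonoidHom E d)
  have hTinv : ∀ d, Inv (T d) := by
    rintro d a ha _ ⟨w, hw, rfl⟩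
    refine ⟨(d⁻¹ * a * d) • w, hWinv _ (by simpa using hFn.conj_mem a ha d⁻¹) w hw, ?_⟩
    show d • (d⁻¹ * a * d) • w = a • d • w
    rw [smul_smul, smul_smul]; congr 1; group
  have hTmin : ∀ d, ∀ W' : AddSubgroup E, W' ≤ T d → (∃ w ∈ W', w ≠ 0) → Inv W' → W' = T d := by
    intro d W' hle ⟨w', hw', hne⟩ hinv
    refine le_antisymm hle ?_
    let W'' : AddSubgroup E := W'.comap (DistribSMul.toAddMonoidHom E d)
    have h1 : W'' ≤ W := fun x hx => by
      obtain ⟨w, hw, e⟩ := hle hx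
      have e' : d • w = d • x := e
      rwa [← (smul_left_cancel_iff d).mp e']
    have h2 : W ≤ W'' := hWmin ⟨⟨d⁻¹ • w', by
        show d • d⁻¹ • w' ∈ W'
        rwa [smul_inv_smul], fun e => hne (by rw [← smul_inv_smul d w', e, smul_zero])⟩,
      fun a ha x hx => by
        show d • a • x ∈ W'
        rw [smul_smul, show d * a = d * a * d⁻¹ * d by group, mul_smul]
        exact hinv _ (hFn.conj_mem a ha d) _ hx⟩ h1
    rintro _ ⟨w, hw, rfl⟩
    exact h2 hw
  have hcover : ∀ v : E, v ≠ 0 → ∃ d, v ∈ T d := fun v hv => by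
    obtain ⟨d, hd | hd⟩ := h.trans w₀ v hw₀ne hv
    · exact ⟨d, hd ▸ ⟨w₀, hw₀, rfl⟩⟩
    · refine ⟨d, ?_⟩
      have : d • w₀ ∈ T d := ⟨w₀, hw₀, rfl⟩
      rw [hd] at this
      simpa using (T d).neg_mem this
  have hdis : ∀ d d' : D, ∀ v : E, v ≠ 0 → v ∈ T d → v ∈ T d' → T d = T d' := by
    intro d d' v hv h1 h2
    have hi : Inv (T d ⊓ T d') := fun a ha w hw => ⟨hTinv d a ha w hw.1, hTinv d' a ha w hw.2⟩
    exact (hTmin d _ inf_le_left ⟨v, ⟨h1, h2⟩, hv⟩ hi).symm.trans
      (hTmin d' _ inf_le_right ⟨v, ⟨h1, h2⟩, hv⟩ hi)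
  have hinj : ∀ c ∈ K, c ≠ 0 → Function.Injective c := by
    intro c hc hc0
    rw [injective_iff_map_eq_zero]
    intro w hw
    by_contra hwne
    obtain ⟨d, hd⟩ := hcover w hwne
    have hkill : ∀ v ∈ T d, c v = 0 := by
      intro v hv
      let K' : AddSubgroup E := (AddMonoidHom.ker c) ⊓ T d
      have : K' = T d := hTmin d K' inf_le_right ⟨w, ⟨hw, hd⟩, hwne⟩ fun a ha x hx => ⟨by
        show c (a • x) = 0
        rw [hcent c hc a ha, show c x = 0 from hx.1, smul_zero], hTinv d a ha x hx.2⟩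
      exact (this.ge hv).1
    refine hc0 (AddMonoidHom.ext fun v' => ?_)
    show c v' = 0
    by_cases hv' : v' ∈ T d
    · exact hkill v' hv'
    · have hv'0 : v' ≠ 0 := fun e => hv' (e ▸ (T d).zero_mem)
      obtain ⟨d', hd'⟩ := hcover v' hv'0
      have hu : w + v' ≠ 0 := fun e => hv' (by
        rw [eq_neg_of_add_eq_zero_right e]; exact (T d).neg_mem hd)
      obtain ⟨d'', hd''⟩ := hcover _ hu
      have hcu : c v' ∈ T d'' := by
        have := hKinv c hc _ (hTinv d'') _ hd''
        rwa [map_add, hw, zero_add] at this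
      by_contra hne
      have e1 := hdis d' d'' (c v') hne (hKinv c hc _ (hTinv d') _ hd') hcu
      have hw' : w ∈ T d' := by
        rw [e1]
        rw [← add_sub_cancel_right w v']
        exact (T d'').sub_mem hd'' (e1 ▸ hd')
      exact hv' (hdis d d' w hwne hd hw' ▸ hd')
  haveI : Nontrivial K := ⟨⟨0, 1, fun e => he₀ (DFunLike.congr_fun (congrArg Subtype.val e) e₀).symm⟩⟩
  haveI : NoZeroDivisors K := ⟨fun {x y} hxy => by
    by_contra hne'
    push Not at hne'
    refine hne'.2 (Subtype.ext (AddMonoidHom.ext fun w => ?_))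
    refine hinj x.1 x.2 (fun e => hne'.1 (Subtype.ext e)) ?_
    exact (DFunLike.congr_fun (congrArg Subtype.val hxy) w).trans (map_zero _).symm⟩
  haveI : IsDomain K := NoZeroDivisors.to_isDomain K
  haveI : Finite (AddMonoid.End E) := Finite.of_injective (fun c => (c : E → E)) DFunLike.coe_injective
  letI : Fintype K := Fintype.ofFinite K
  letI : Field K := (Finite.isField_of_domain K).toField
  -- evaluation at `w₀`
  let ev : K →+ E :=
    { toFun := fun c => (c : AddMonoid.End E) w₀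
      map_zero' := rfl
      map_add' := fun a b => rfl }
  have hev : Function.Injective ev := (injective_iff_map_eq_zero ev).mpr fun c hc => by
    by_contra hne
    exact hw₀ne (hinj c.1 c.2 (fun e => hne (Subtype.ext e)) (hc.trans (map_zero _).symm))
  have hrange : ev.range = T 1 := by
    refine hTmin 1 _ ?_ ⟨w₀, ⟨1, rfl⟩, hw₀ne⟩ ?_
    · rintro _ ⟨c, rfl⟩
      exact hKinv c.1 c.2 _ (hTinv 1) _ ⟨w₀, hw₀, one_smul D w₀⟩
    · rintro a ha _ ⟨c, rfl⟩
      exact ⟨⟨ρ a, hgenK a ha⟩ * c, rfl⟩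
  have hcardT : ∀ d, Nat.card (T d) = Nat.card K := by
    have h1 : Nat.card (T 1) = Nat.card K := by
      rw [← hrange]; exact (Nat.card_congr (AddMonoidHom.ofInjective hev).toEquiv).symm
    intro d
    rw [← h1]
    refine Nat.card_congr ?_
    exact ((W.equivMapOfInjective _ (MulAction.injective d)).symm.trans
      (W.equivMapOfInjective _ (MulAction.injective (1 : D)))).toEquiv
  -- conjugation
  let conj : D → AddMonoid.End E → AddMonoid.End E := fun d c => ρ d * c * ρ d⁻¹
  have hρ1 : ρ 1 = 1 := AddMonoidHom.ext fun w => one_smul D w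
  have hρi : ∀ d : D, ρ d⁻¹ * ρ d = 1 := fun d => by rw [← hρ, inv_mul_cancel, hρ1]
  have hconjK : ∀ d, ∀ c ∈ K, conj d c ∈ K := by
    intro d c hc
    refine Subring.closure_induction (p := fun c _ => conj d c ∈ K) ?_ ?_ ?_ ?_ ?_ ?_ hc
    · rintro _ ⟨a, ha, rfl⟩
      simp only [conj, ← hρ]
      exact hgenK _ (hFn.conj_mem a ha d)
    · simp only [conj, mul_zero, zero_mul]; exact K.zero_mem
    · simp only [conj, mul_one, ← hρ, mul_inv_cancel, hρ1]; exact K.one_mem
    · intro x y _ _ hx hy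
      simp only [conj, mul_add, add_mul] at hx hy ⊢
      exact K.add_mem hx hy
    · intro x _ hx
      simp only [conj, mul_neg, neg_mul] at hx ⊢
      exact K.neg_mem hx
    · intro x y _ _ hx hy
      have : conj d (x * y) = conj d x * conj d y := by
        simp only [conj]
        calc _ = ρ d * x * 1 * y * ρ d⁻¹ := by simp [mul_assoc]
          _ = _ := by rw [← hρi d]; simp only [mul_assoc]
      rw [this]
      exact K.mul_mem hx hy
  have hconj_conj : ∀ d d' c, conj d (conj d' c) = conj (d * d') c := fun d d' c => by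
    simp only [conj, mul_inv_rev, hρ, mul_assoc]
  let φ : D → (K ≃+* K) := fun d =>
    { toFun := fun c => ⟨conj d c, hconjK d c c.2⟩
      invFun := fun c => ⟨conj d⁻¹ c, hconjK d⁻¹ c c.2⟩
      left_inv := fun c => Subtype.ext (by
        show conj d⁻¹ (conj d c) = c
        rw [hconj_conj, inv_mul_cancel]; simp [conj, hρ1])
      right_inv := fun c => Subtype.ext (by
        show conj d (conj d⁻¹ c) = c
        rw [hconj_conj, mul_inv_cancel]; simp [conj, hρ1])
      map_mul' := fun x y => Subtype.ext (by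
        show conj d ((x : AddMonoid.End E) * y) = conj d x * conj d y
        simp only [conj]
        calc _ = ρ d * (x : AddMonoid.End E) * 1 * y * ρ d⁻¹ := by simp [mul_assoc]
          _ = _ := by rw [← hρi d]; simp only [mul_assoc])
      map_add' := fun x y => Subtype.ext (by
        show conj d ((x : AddMonoid.End E) + y) = conj d x + conj d y
        simp only [conj, mul_add, add_mul]) }
  -- the sizes
  haveI : CharP K q := by
    refine (CharP.charP_iff_prime_eq_zero h.prime).mpr (Subtype.ext ?_)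
    rw [SubringClass.coe_natCast]
    exact AddMonoidHom.ext fun w => (AddMonoid.End.natCast_apply q w).trans (h.exp w)
  letI : Algebra (ZMod q) K := ZMod.algebra K q
  obtain ⟨o, ho, hKcard⟩ : ∃ o, Module.finrank (ZMod q) K = o ∧ Nat.card K = q ^ o := by
    refine ⟨_, rfl, ?_⟩
    rw [Nat.card_eq_fintype_card, Module.card_eq_pow_finrank (K := ZMod q) (V := K), ZMod.card]
  have ho0 : 0 < o := by
    by_contra h0
    have := Finite.one_lt_card (α := K)
    rw [hKcard, show o = 0 by omega, pow_zero] at this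
    omega
  have hAut : Nat.card (K ≃+* K) ≤ o := by
    haveI : Finite (K ≃ₐ[ZMod q] K) := inferInstance
    let f : (K ≃+* K) → (K ≃ₐ[ZMod q] K) := fun σ => AlgEquiv.ofRingEquiv (f := σ) fun x =>
      DFunLike.congr_fun (Subsingleton.elim ((σ : K →+* K).comp (algebraMap (ZMod q) K))
        (algebraMap (ZMod q) K)) x
    refine (Nat.card_le_card_of_injective f fun σ τ e => RingEquiv.ext fun x =>
      (DFunLike.congr_fun e x :)).trans ?_
    rw [Nat.card_eq_fintype_card, ← ho]
    exact AlgEquiv.card_le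
  have hcardD : Nat.card D ≤ (Nat.card K - 1) * o := by
    have hker : ∀ d d' : D, φ d = φ d' → d'⁻¹ * d ∈ F := by
      intro d d' e
      refine h.centralizer_fitting (Subgroup.mem_centralizer_iff.mpr fun a ha => ?_)
      have h1 : conj d (ρ a) = conj d' (ρ a) :=
        congrArg Subtype.val (DFunLike.congr_fun e ⟨ρ a, hgenK a ha⟩)
      simp only [conj, ← hρ] at h1
      have h2 : d * a * d⁻¹ = d' * a * d'⁻¹ := by
        refine (inv_mul_eq_one.mp (h.faith _ fun w => ?_)).symm
        rw [mul_smul, show (d * a * d⁻¹) • w = (d' * a * d'⁻¹) • w from DFunLike.congr_fun h1 w,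
          inv_smul_smul]
      calc a * (d'⁻¹ * d) = d'⁻¹ * (d' * a * d'⁻¹) * d := by group
        _ = _ := by rw [← h2]; group
    haveI : Finite (K ≃+* K) := Finite.of_injective (fun σ => (σ : K → K)) DFunLike.coe_injective
    have hFle : Nat.card F ≤ Nat.card K - 1 := by
      let g : F → {c : K // c ≠ 0} := fun a => ⟨⟨ρ a, hgenK a a.2⟩, fun e => hw₀ne (by
        have h1 := DFunLike.congr_fun (congrArg Subtype.val e) w₀
        exact (smul_eq_zero_iff_eq (a : D)).mp h1)⟩
      refine (Nat.card_le_card_of_injective g fun a b e => Subtype.ext ?_).trans (le_of_eq ?_)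
      · refine inv_mul_eq_one.mp (h.faith _ fun w => ?_)
        rw [mul_smul, inv_smul_eq_iff]
        exact (DFunLike.congr_fun (congrArg (fun t : {c : K // c ≠ 0} => ((t.1 : K) : AddMonoid.End E)) e)
          w).symm
      · rw [Nat.card_eq_fintype_card, Nat.card_eq_fintype_card, Fintype.card_subtype_compl,
          Fintype.card_subtype_eq]
    haveI := Fintype.ofFinite D
    haveI := Fintype.ofFinite (K ≃+* K)
    calc Nat.card D ≤ Nat.card F * Nat.card (K ≃+* K) := ?_
      _ ≤ _ := Nat.mul_le_mul hFle hAut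
    rw [Nat.card_eq_fintype_card, Nat.card_eq_fintype_card (α := K ≃+* K), mul_comm]
    refine (Finset.card_le_mul_card_image (Finset.univ : Finset D) (Nat.card F) (f := φ) fun σ hσ => ?_).trans ?_
    · obtain ⟨d', -, rfl⟩ := Finset.mem_image.mp hσ
      rw [← Fintype.card_subtype, ← Nat.card_eq_fintype_card]
      refine Nat.card_le_card_of_injective (fun d : {d // φ d = φ d'} => (⟨d'⁻¹ * d.1, hker _ _ d.2⟩ : F))
        fun a b e => Subtype.ext (mul_left_cancel (congrArg Subtype.val e))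
    · rw [mul_comm]
      exact Nat.mul_le_mul_right _ (Finset.card_le_univ _)
  have hcardE : Nat.card E - 1 ≤ 2 * Nat.card D := by
    haveI := Fintype.ofFinite E
    haveI := Fintype.ofFinite D
    rw [Nat.card_eq_fintype_card, Nat.card_eq_fintype_card, ← Finset.card_univ (α := E),
      ← Finset.card_erase_of_mem (Finset.mem_univ (0 : E)), mul_comm,
      show Fintype.card D * 2 = Fintype.card (D × Bool) by simp]
    refine Finset.card_le_card_of_surjOn (fun x : D × Bool => if x.2 then x.1 • w₀ else -(x.1 • w₀))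
      fun v hv => ?_
    obtain ⟨d, hd | hd⟩ := h.trans w₀ v hw₀ne (Finset.mem_erase.mp hv).1
    · exact ⟨(d, true), Finset.mem_coe.mpr (Finset.mem_univ _), hd⟩
    · refine ⟨(d, false), Finset.mem_coe.mpr (Finset.mem_univ _), ?_⟩
      show (if false = true then d • w₀ else -(d • w₀)) = v
      simp [hd]
  have hT1 : T 1 = ⊤ := by
    by_contra hne
    obtain ⟨v, hv⟩ : ∃ v, v ∉ T 1 := by
      by_contra hall
      push Not at hall
      exact hne (eq_top_iff.mpr fun x _ => hall x)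
    have hv0 : v ≠ 0 := fun e => hv (e ▸ (T 1).zero_mem)
    obtain ⟨d, hd⟩ := hcover v hv0
    have hbig : Nat.card K * Nat.card K ≤ Nat.card E := by
      have hp : Nat.card (T 1 × T d) = Nat.card K * Nat.card K := by rw [Nat.card_prod, hcardT, hcardT]
      rw [← hp]
      refine Nat.card_le_card_of_injective (fun x => (x.1 : E) + x.2) fun x y e => ?_
      have e' : (x.1 : E) - y.1 = y.2 - x.2 := by rw [sub_eq_sub_iff_add_eq_add, add_comm (y.2 : E)]; exact e
      have h0 : (x.1 : E) - y.1 = 0 := by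
        by_contra hne'
        have hm : (x.1 : E) - y.1 ∈ T d := e' ▸ (T d).sub_mem y.2.2 x.2.2
        exact hv (hdis 1 d _ hne' ((T 1).sub_mem x.1.2 y.1.2) hm ▸ hd)
      exact Prod.ext (Subtype.ext (sub_eq_zero.mp h0))
        (Subtype.ext (sub_eq_zero.mp (e'.symm.trans h0)).symm)
    have hlt := two_mul_lt h.prime.two_le ho0
    rw [← hKcard] at hlt
    have hK2 : 2 ≤ Nat.card K := Finite.one_lt_card
    generalize Nat.card K = Q at hbig hlt hcardD hK2
    have h1 : (Q - 1) * (Q + 1) ≤ Nat.card E - 1 := by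
      obtain ⟨s, rfl⟩ : ∃ s, Q = s + 1 := ⟨Q - 1, by omega⟩
      rw [Nat.add_sub_cancel]
      have : s * (s + 1 + 1) + 1 = (s + 1) * (s + 1) := by ring
      omega
    have h2 : (Q - 1) * (Q + 1) ≤ (Q - 1) * (2 * o) := by
      refine (h1.trans (hcardE.trans (Nat.mul_le_mul_left 2 hcardD))).trans (le_of_eq ?_)
      ring
    have := Nat.le_of_mul_le_mul_left h2 (by omega)
    omega
  have hsurj : Function.Surjective ev := fun v => by
    have : v ∈ ev.range := by rw [hrange, hT1]; exact AddSubgroup.mem_top v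
    exact this
  refine ⟨K, inferInstance, inferInstance, (AddEquiv.ofBijective ev ⟨hev, hsurj⟩).symm, fun d => ?_⟩
  set e := (AddEquiv.ofBijective ev ⟨hev, hsurj⟩).symm with he
  have hev' : ∀ v, (e v : AddMonoid.End E) w₀ = v := fun v =>
    (AddEquiv.ofBijective ev ⟨hev, hsurj⟩).apply_symm_apply v
  have ha : e (d • w₀) ≠ 0 := fun e' => hw₀ne ((smul_eq_zero_iff_eq d).mp (by
    rw [← hev' (d • w₀), e']; rfl))
  refine ⟨Units.mk0 _ ha, φ d, fun v => ?_⟩
  refine (AddEquiv.ofBijective ev ⟨hev, hsurj⟩).injective ?_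
  rw [Units.val_mk0, mul_comm]
  refine ((AddEquiv.ofBijective ev ⟨hev, hsurj⟩).apply_symm_apply _).trans ?_
  show d • v = (φ d (e v) : AddMonoid.End E) ((e (d • w₀) : AddMonoid.End E) w₀)
  rw [hev']
  show d • v = ρ d ((e v : AddMonoid.End E) (ρ d⁻¹ (d • w₀)))
  show d • v = d • (e v : AddMonoid.End E) (d⁻¹ • d • w₀)
  rw [inv_smul_smul, hev']

end CfsgLib.LinearOdd
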