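import Cfsg.Agent.Lib.LinearOdd.Structure
import Cfsg.Prelude.Def_Perm
import Mathlib.GroupTheory.GroupAction.SubMulAction.Combination
import Mathlib.FieldTheory.Finite.GaloisField
import Mathlib.GroupTheory.Perm.Cycle.Type

/-!
# Two fold homogeneous groups that are not doubly transitive
-/

set_option autoImplicit false
set_option linter.unusedSectionVars false

namespace CfsgLib.LinearOdd

open MulAction
open scoped Pointwise

universe u

variable {α : Type u} [Fintype α] [DecidableEq α] {G : Subgroup (Equiv.Perm α)}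

theorem exists_pair_map (h2 : IsPretransitive G (Set.powersetCard α 2)) {a b c d : α} (hab : a ≠ b)
    (hcd : c ≠ d) : ∃ g : G, (g • a = c ∧ g • b = d) ∨ (g • a = d ∧ g • b = c) := by
  obtain ⟨g, hg⟩ := h2.exists_smul_eq ⟨{a, b}, Finset.card_pair hab⟩ ⟨{c, d}, Finset.card_pair hcd⟩
  have h := congrArg Subtype.val hg
  change g • ({a, b} : Finset α) = {c, d} at h
  rw [Finset.smul_finset_insert, Finset.smul_finset_singleton] at h
  have ha : g • a ∈ ({c, d} : Finset α) := h ▸ Finset.mem_insert_self _ _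
  have hb : g • b ∈ ({c, d} : Finset α) := h ▸ Finset.mem_insert_of_mem (Finset.mem_singleton_self _)
  simp only [Finset.mem_insert, Finset.mem_singleton] at ha hb
  have hne : g • a ≠ g • b := fun e => hab (smul_left_cancel g e)
  exact ⟨g, by
    rcases ha with ha | ha <;> rcases hb with hb | hb
    · exact absurd (ha.trans hb.symm) hne
    · exact Or.inl ⟨ha, hb⟩
    · exact Or.inr ⟨ha, hb⟩
    · exact absurd (ha.trans hb.symm) hne⟩

theorem swap_to_two (h2 : IsPretransitive G (Set.powersetCard α 2)) {a b : α} (hab : a ≠ b) {t : G}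
    (hta : t • a = b) (htb : t • b = a) : IsMultiplyPretransitive G α 2 := by
  rw [is_two_pretransitive_iff]
  intro x y x' y' hxy hxy'
  obtain ⟨g, hg | ⟨g1, g2⟩⟩ := exists_pair_map h2 hxy hxy'
  · exact ⟨g, hg⟩
  obtain ⟨k, ⟨k1, k2⟩ | ⟨k1, k2⟩⟩ := exists_pair_map h2 hxy' hab
  · refine ⟨k⁻¹ * t * k * g, ?_, ?_⟩
    · rw [mul_smul, g1, mul_smul, k2, mul_smul, htb, inv_smul_eq_iff, k1]
    · rw [mul_smul, g2, mul_smul, k1, mul_smul, hta, inv_smul_eq_iff, k2]
  · refine ⟨k⁻¹ * t * k * g, ?_, ?_⟩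
    · rw [mul_smul, g1, mul_smul, k2, mul_smul, hta, inv_smul_eq_iff, k1]
    · rw [mul_smul, g2, mul_smul, k1, mul_smul, htb, inv_smul_eq_iff, k2]

theorem three_le_card (hne : G ≠ ⊥) (hn2 : ¬ IsMultiplyPretransitive G α 2) :
    3 ≤ Fintype.card α := by
  by_contra hlt
  obtain ⟨g, hg, hg1⟩ := (Subgroup.bot_or_exists_ne_one G).resolve_left hne
  obtain ⟨x, hx⟩ : ∃ x, g x ≠ x := by
    by_contra hall
    push Not at hall
    exact hg1 (Equiv.ext hall)
  have hall : ∀ z, z = x ∨ z = g x := by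
    intro z
    by_contra hz
    push Not at hz
    have h3 : ({z, x, g x} : Finset α).card ≤ Fintype.card α := Finset.card_le_univ _
    rw [Finset.card_insert_of_notMem (by simp [hz.1, hz.2]), Finset.card_pair (Ne.symm hx)] at h3
    omega
  have hgx : g (g x) = x := (hall (g (g x))).resolve_right fun e => hx (g.injective e)
  refine hn2 ((is_two_pretransitive_iff).mpr fun {a b c d} hab hcd => ?_)
  have hother : ∀ {u v : α}, u ≠ v → v = g u := by
    intro u v huv
    rcases hall u with rfl | rfl <;> rcases hall v with rfl | rfl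
    · exact absurd rfl huv
    · rfl
    · exact hgx.symm
    · exact absurd rfl huv
  rcases eq_or_ne a c with rfl | hac
  · exact ⟨1, one_smul G a, by rw [one_smul, hother hab, hother hcd]⟩
  · exact ⟨⟨g, hg⟩, (hother hac).symm, by
      show g b = d
      rw [hother hab, hother hcd, hother hac]⟩

theorem pretransitive_of_homog (h2 : IsPretransitive G (Set.powersetCard α 2))
    (h3 : 3 ≤ Fintype.card α) : IsPretransitive G α := by
  refine ⟨fun x y => ?_⟩
  by_contra hno
  push Not at hno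
  have hxy : x ≠ y := fun e => hno 1 (by rw [one_smul, e])
  obtain ⟨z, hz⟩ : ∃ z, z ∉ ({x, y} : Finset α) := by
    by_contra hall
    push Not at hall
    have := Finset.card_le_card (s := (Finset.univ : Finset α)) (t := {x, y}) fun z _ => hall z
    rw [Finset.card_univ, Finset.card_pair hxy] at this
    omega
  simp only [Finset.mem_insert, Finset.mem_singleton, not_or] at hz
  obtain ⟨g, ⟨-, g2⟩ | ⟨g1, -⟩⟩ := exists_pair_map h2 (Ne.symm hz.1) hxy
  swap; · exact hno g g1
  obtain ⟨h, ⟨h1, -⟩ | ⟨-, hh2⟩⟩ := exists_pair_map h2 (Ne.symm hz.2) hxy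
  · exact hno h⁻¹ (by rw [inv_smul_eq_iff, h1])
  · exact hno (g * h⁻¹) (by rw [mul_smul, show h⁻¹ • x = z by rw [inv_smul_eq_iff, hh2], g2])

/-- Kantor's theorem. -/
theorem kantor (hne : G ≠ ⊥) (h2 : IsPretransitive G (Set.powersetCard α 2))
    (hn2 : ¬ IsMultiplyPretransitive G α 2) :
    Odd (Nat.card G) ∧ ∃ (p f : ℕ) (_ : Fact p.Prime), p ≠ 2 ∧ Fintype.card α = p ^ f ∧
      p ^ f % 4 = 3 ∧ ∃ e : α ≃ GaloisField p f,
        (∀ g : G, e.symm.trans (((g : Equiv.Perm α)).trans e) ∈ Cfsg.semiaffineGroup (GaloisField p f)) ∧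
        ∀ b : GaloisField p f, ∃ g : G, ∀ x : α, e ((g : Equiv.Perm α) x) = e x + b := by
  classical
  have h3 := three_le_card hne hn2
  haveI := pretransitive_of_homog h2 h3
  have hodd : Odd (Nat.card G) := by
    refine Nat.not_even_iff_odd.mp fun he => hn2 ?_
    haveI : Fact (Nat.Prime 2) := ⟨Nat.prime_two⟩
    obtain ⟨t, ht⟩ := exists_prime_orderOf_dvd_card' (G := G) 2 (even_iff_two_dvd.mp he)
    obtain ⟨a, ha⟩ : ∃ a : α, t • a ≠ a := by
      by_contra hall
      push Not at hall
      rw [show t = 1 from Subtype.ext (Equiv.ext hall), orderOf_one] at ht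
      omega
    refine swap_to_two h2 (Ne.symm ha) rfl ?_
    rw [smul_smul, ← pow_two, ← ht, pow_orderOf_eq_one, one_smul]
  refine ⟨hodd, ?_⟩
  haveI hsol := Cfsg.Agent.S0205.result hodd
  haveI : Nontrivial G := (Subgroup.nontrivial_iff_ne_bot G).mpr hne
  obtain ⟨N, hNn, hN0, hNmin⟩ := CfsgLib.Solvable.exists_minimal_normal (G := G)
  haveI := hNn
  have hNs : Group.IsSolvable N := inferInstance
  have hNc := CfsgLib.Solvable.commute_of_minimal_normal N hN0 hNmin hNs
  obtain ⟨p, hp, hNp⟩ :=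
    CfsgLib.Solvable.exists_prime_pow_eq_one_of_minimal_normal N hN0 hNmin hNs
  haveI := Fact.mk hp
  -- `N` is regular
  obtain ⟨m, hm, hm1⟩ := (Subgroup.bot_or_exists_ne_one N).resolve_left hN0
  obtain ⟨x₀, hx₀⟩ : ∃ x : α, m • x ≠ x := by
    by_contra hall
    push Not at hall
    exact hm1 (Subtype.ext (Equiv.ext hall))
  have hNtrans : ∀ y, ∃ n ∈ N, n • x₀ = y := by
    intro y
    rcases eq_or_ne y x₀ with rfl | hy
    · exact ⟨1, one_mem N, one_smul _ _⟩
    obtain ⟨g, ⟨g1, g2⟩ | ⟨g1, g2⟩⟩ := exists_pair_map h2 (Ne.symm hx₀) (Ne.symm hy)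
    · refine ⟨g * m * g⁻¹, hNn.conj_mem m hm g, ?_⟩
      rw [mul_smul, mul_smul, show g⁻¹ • x₀ = x₀ by rw [inv_smul_eq_iff, g1], g2]
    · refine ⟨(g * m * g⁻¹)⁻¹, inv_mem (hNn.conj_mem m hm g), ?_⟩
      rw [inv_smul_eq_iff, mul_smul, mul_smul, show g⁻¹ • y = x₀ by rw [inv_smul_eq_iff, g1], g2]
  have hNfree : ∀ n ∈ N, n • x₀ = x₀ → n = 1 := by
    intro n hn hfix
    refine Subtype.ext (Equiv.ext fun y => ?_)
    obtain ⟨k, hk, rfl⟩ := hNtrans y
    show n • k • x₀ = k • x₀
    rw [smul_smul, hNc n hn k hk, mul_smul, hfix]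
  let π : N ≃ α := Equiv.ofBijective (fun n : N => (n : G) • x₀)
    ⟨fun a b e => Subtype.ext (inv_mul_eq_one.mp (hNfree _ (mul_mem (inv_mem a.2) b.2) (by
        rw [mul_smul, ← (show (a : G) • x₀ = (b : G) • x₀ from e), inv_smul_smul]))),
      fun y => by obtain ⟨n, hn, hy⟩ := hNtrans y; exact ⟨⟨n, hn⟩, hy⟩⟩
  set D := MulAction.stabilizer G x₀ with hD
  letI : CommGroup N := { (inferInstance : Group N) with
    mul_comm := fun a b => Subtype.ext (hNc a a.2 b b.2) }
  letI : DistribMulAction D (Additive N) :=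
    { smul := fun d v => Additive.ofMul ⟨(d : G) * (v.toMul : G) * (d : G)⁻¹,
        hNn.conj_mem _ v.toMul.2 _⟩
      one_smul := fun v => Additive.toMul.injective (Subtype.ext (by
        show ((1 : D) : G) * (v.toMul : G) * ((1 : D) : G)⁻¹ = (v.toMul : G)
        simp))
      mul_smul := fun a b v => Additive.toMul.injective (Subtype.ext (by
        show ((a * b : D) : G) * (v.toMul : G) * ((a * b : D) : G)⁻¹ =
          (a : G) * ((b : G) * (v.toMul : G) * (b : G)⁻¹) * (a : G)⁻¹
        simp [mul_assoc]))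
      smul_zero := fun d => Additive.toMul.injective (Subtype.ext (by
        show (d : G) * ((1 : N) : G) * (d : G)⁻¹ = ((1 : N) : G)
        simp))
      smul_add := fun d v w => Additive.toMul.injective (Subtype.ext (by
        show (d : G) * ((v.toMul * w.toMul : N) : G) * (d : G)⁻¹ =
          ((d : G) * (v.toMul : G) * (d : G)⁻¹) * ((d : G) * (w.toMul : G) * (d : G)⁻¹)
        simp [mul_assoc])) }
  have hsmul : ∀ (d : D) (n : N), (((d • Additive.ofMul n).toMul : N) : G) • x₀ =
      (d : G) • (n : G) • x₀ := by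
    intro d n
    show ((d : G) * (n : G) * (d : G)⁻¹) • x₀ = _
    rw [mul_smul, mul_smul, show (d : G)⁻¹ • x₀ = x₀ by rw [inv_smul_eq_iff, (d.2 : (d : G) • x₀ = x₀)]]
  have hH : Hyp D (Additive N) p :=
    { odd := hodd.of_dvd_nat D.card_subgroup_dvd_card
      prime := hp
      exp := fun v => Additive.toMul.injective (Subtype.ext (hNp _ v.toMul.2))
      exists_ne := ⟨Additive.ofMul ⟨m, hm⟩, fun e => hm1 (congrArg Subtype.val (congrArg Additive.toMul e))⟩
      faith := fun d hd => Subtype.ext (Subtype.ext (Equiv.ext fun y => by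
        obtain ⟨n, rfl⟩ := π.surjective y
        show (d : G) • (n : G) • x₀ = (n : G) • x₀
        rw [← hsmul, hd]; rfl))
      trans := fun v w hv hw => by
        have hne' : ∀ u : Additive N, u ≠ 0 → (u.toMul : G) • x₀ ≠ x₀ := fun u hu e =>
          hu (Additive.toMul.injective (Subtype.ext (hNfree _ u.toMul.2 e)))
        obtain ⟨g, ⟨g1, g2⟩ | ⟨g1, g2⟩⟩ := exists_pair_map h2 (Ne.symm (hne' v hv)) (Ne.symm (hne' w hw))
        · refine ⟨⟨g, g1⟩, Or.inl (Additive.toMul.injective (π.injective ?_))⟩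
          exact (hsmul ⟨g, g1⟩ v.toMul).trans g2
        · set g' := (w.toMul : G)⁻¹ * g
          have hg' : g' • x₀ = x₀ := by rw [mul_smul, g1, inv_smul_smul]
          refine ⟨⟨g', hg'⟩, Or.inr (Additive.toMul.injective (π.injective ?_))⟩
          refine (hsmul ⟨g', hg'⟩ v.toMul).trans ?_
          show g' • (v.toMul : G) • x₀ = ((-w).toMul : G) • x₀
          rw [mul_smul, g2]; rfl }
  obtain ⟨K, _, _, eK, hsemi⟩ := hH.semilinear
  have hcard : Fintype.card α = Fintype.card K := Fintype.card_congr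
    (π.symm.trans (Additive.ofMul.trans eK.toEquiv))
  haveI : CharP K p := by
    refine (CharP.charP_iff_prime_eq_zero hp).mpr (eK.symm.injective ?_)
    rw [map_zero, ← nsmul_one p, map_nsmul]
    exact hH.exp _
  obtain ⟨f, -, hf⟩ := FiniteField.card K p
  rw [hf] at hcard
  have hp2 : p ≠ 2 := by
    intro e
    refine absurd (hodd.of_dvd_nat ((?_ : 2 ∣ Fintype.card α).trans ?_)) (by decide)
    · rw [hcard, e]; exact dvd_pow_self 2 f.pos.ne'
    · rw [← Nat.card_eq_fintype_card, ← index_stabilizer_of_transitive G x₀]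
      exact Subgroup.index_dvd_card _
  -- exactly two orbits of odd length
  have hmod : p ^ (f : ℕ) % 4 = 3 := by
    obtain ⟨v₀, hv₀⟩ := hH.exists_ne
    haveI := Fintype.ofFinite (Additive N)
    haveI := Fintype.ofFinite D
    have hnn : ∀ v : Additive N, v ≠ 0 → -v ≠ v := fun v hv e => hv
      (nsmul_cancel hH.exp ((Nat.coprime_primes Nat.prime_two hp).mpr (Ne.symm hp2))
        (by rw [two_nsmul]; nth_rewrite 1 [← e]; exact neg_add_cancel v))
    set O := (Finset.univ : Finset D).image fun d => d • v₀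
    set O' := O.image fun v => -v
    have hOodd : Odd O.card := by
      have h1 : O.card = Nat.card (MulAction.orbit D v₀) := by
        rw [Nat.card_eq_fintype_card, ← Set.toFinset_card]
        congr 1
        ext v
        simp [O, MulAction.mem_orbit_iff]
      rw [h1, ← Nat.card_congr (MulAction.orbitEquivQuotientStabilizer D v₀).symm]
      exact hH.odd.of_dvd_nat (Subgroup.index_dvd_card _)
    have hdisj : Disjoint O O' := by
      rw [Finset.disjoint_left]
      intro v hv hv'
      simp only [O, O', Finset.mem_image, Finset.mem_univ, true_and, exists_exists_eq_and] at hv hv'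
      obtain ⟨a, rfl⟩ := hv
      obtain ⟨b, hb⟩ := hv'
      set d := a⁻¹ * b
      have hd : d • v₀ = -v₀ := by
        rw [mul_smul, inv_smul_eq_iff, smul_neg, ← hb, neg_neg]
      have hd2 : ∀ k : ℕ, d ^ k • v₀ = (-1 : ℤ) ^ k • v₀ := by
        intro k
        induction k with
        | zero => simp
        | succ k ih => rw [pow_succ, mul_smul, hd, smul_neg, ih, pow_succ, mul_smul, neg_one_zsmul, smul_neg]
      have h1 := hd2 (Nat.card D)
      rw [pow_card_eq_one', one_smul, hH.odd.neg_one_pow, neg_one_zsmul] at h1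
      exact hnn v₀ hv₀ h1.symm
    have hunion : O ∪ O' = Finset.univ.erase (0 : Additive N) := by
      ext v
      simp only [O, O', Finset.mem_union, Finset.mem_image, Finset.mem_univ, true_and,
        exists_exists_eq_and, Finset.mem_erase, and_true]
      constructor
      · rintro (⟨d, rfl⟩ | ⟨d, rfl⟩) e
        · exact hv₀ ((smul_eq_zero_iff_eq d).mp e)
        · exact hv₀ ((smul_eq_zero_iff_eq d).mp (neg_eq_zero.mp e))
      · intro hv
        obtain ⟨d, hd | hd⟩ := hH.trans v₀ v hv₀ hv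
        · exact Or.inl ⟨d, hd⟩
        · exact Or.inr ⟨d, by rw [hd, neg_neg]⟩
    have h1 := congrArg Finset.card hunion
    rw [Finset.card_union_of_disjoint hdisj, Finset.card_image_of_injective _ neg_injective,
      Finset.card_erase_of_mem (Finset.mem_univ _), Finset.card_univ,
      ← Fintype.card_congr (π.symm.trans Additive.ofMul), hcard] at h1
    obtain ⟨k, hk⟩ := hOodd
    rw [hk] at h1
    have : 0 < p ^ (f : ℕ) := pow_pos hp.pos _
    omega
  haveI : Fintype (GaloisField p f) := Fintype.ofFinite _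
  have hKG : Fintype.card K = Fintype.card (GaloisField p f) := by
    rw [hf, ← Nat.card_eq_fintype_card (α := GaloisField p f), GaloisField.card p f f.pos.ne']
  let ι : K ≃+* GaloisField p f := FiniteField.ringEquivOfCardEq hKG
  refine ⟨p, f, inferInstance, hp2, hcard, hmod,
    π.symm.trans (Additive.ofMul.trans (eK.toEquiv.trans ι.toEquiv)), ?_, ?_⟩
  · intro g
    obtain ⟨n, hn⟩ := π.surjective (g • x₀)
    have hd : (n : G)⁻¹ * g ∈ D := by
      show ((n : G)⁻¹ * g) • x₀ = x₀
      rw [mul_smul, ← hn]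
      exact inv_smul_smul _ _
    obtain ⟨a, φ, hφ⟩ := hsemi ⟨_, hd⟩
    refine ⟨Units.map (ι : K →* GaloisField p f) a, ι (eK (Additive.ofMul n)),
      (ι.symm.trans φ).trans ι, fun x => ?_⟩
    obtain ⟨v, rfl⟩ : ∃ v : Additive N, ι (eK v) = x :=
      ⟨eK.symm (ι.symm x), by rw [AddEquiv.apply_symm_apply, RingEquiv.apply_symm_apply]⟩
    have hkey : (g : Equiv.Perm α) (π v.toMul) = π (n * ((⟨_, hd⟩ : D) • v).toMul) := by
      show g • (v.toMul : G) • x₀ = ((n : G) * (((⟨_, hd⟩ : D) • v).toMul : G)) • x₀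
      rw [mul_smul]
      refine Eq.trans ?_ (congrArg ((n : G) • ·) (hsmul ⟨_, hd⟩ v.toMul)).symm
      show g • _ = (n : G) • ((n : G)⁻¹ * g) • _
      rw [mul_smul, smul_inv_smul]
    show ι (eK (Additive.ofMul (π.symm ((g : Equiv.Perm α)
      (π (Additive.toMul (eK.symm (ι.symm (ι (eK v)))))))))) = _
    rw [RingEquiv.symm_apply_apply, AddEquiv.symm_apply_apply, hkey, Equiv.symm_apply_apply, ofMul_mul,
      map_add, map_add, ofMul_toMul, hφ, map_mul]
    simp [add_comm]
  · intro b
    obtain ⟨v, rfl⟩ : ∃ v : Additive N, ι (eK v) = b :=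
      ⟨eK.symm (ι.symm b), by rw [AddEquiv.apply_symm_apply, RingEquiv.apply_symm_apply]⟩
    refine ⟨(v.toMul : G), fun x => ?_⟩
    obtain ⟨n, rfl⟩ := π.surjective x
    show ι (eK (Additive.ofMul (π.symm (((v.toMul : G) : Equiv.Perm α) (π n))))) =
      ι (eK (Additive.ofMul (π.symm (π n)))) + ι (eK v)
    have hkey : ((v.toMul : G) : Equiv.Perm α) (π n) = π (v.toMul * n) := by
      show (v.toMul : G) • (n : G) • x₀ = ((v.toMul : G) * (n : G)) • x₀
      rw [mul_smul]
    rw [hkey, Equiv.symm_apply_apply, Equiv.symm_apply_apply, ofMul_mul, map_add, map_add,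
      ofMul_toMul, add_comm]

end CfsgLib.LinearOdd
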